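import Cfsg.Agent.H4.Cor3
import Cfsg.Agent.H3.U3
import Cfsg.Agent.H2.LyF

/-! Groups whose Sylow `2`-subgroups are of type `U₃(2 ^ n)` (`U3S`, `U3S.main`, `s3177`); `ls_of` (the local structure
`LS` for a strongly closed elementary abelian subgroup). -/

set_option autoImplicit false
set_option linter.unusedSectionVars false
set_option linter.unusedVariables false

namespace H4.Gs
open Subgroup Cfsg H18
open H17 hiding Subn card_cj card_mul_relIndex cj cj_bot cj_cj_inv cj_fit cj_inf cj_inv_cj cj_mono cj_mul cj_one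
  cj_sup conj_mem_cj elem_iff elem_zpowers fit_le fit_top le_phi mem_cj mim_cj mim_fit_le phi phi_le
open scoped commutatorElement

universe u
variable {G : Type u} [Group G] [Finite G] {A B D E H K L M N P Q R S T U V W X Y Z : Subgroup G}
  {a b e g l t u x y z : G} {q : ℕ}

theorem ls_of [G0.{u}] (hS : IsSyl 2 S H) (hA : A ≤ S) (el : Elem 2 A)
    (h : ∀ a ∈ A, ∀ g ∈ H, g * a * g⁻¹ ∈ S → g * a * g⁻¹ ∈ A) : LS (clIn H A) A S H :=
  ⟨(scl_clIn hS hA h).1, hS, (scl_clIn hS hA h).2, el, fun L hL => G0.g0 (ns_kr hL.pqs)⟩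

theorem oQ_comp (hL : IsPComp 2 L H) (hO : oQ 2 H = ⊥) : oQ 2 L = ⊥ := le_bot_iff.1 (hO ▸ hL.subn.oQ_le_oQ)

theorem syl_ne (hL : IsPComp 2 L H) (hT : IsSyl 2 T L) : ¬ T ≤ kr L := fun e => (ns_kr hL.pqs).not_od
  ((hT.mim (f := coset (kr L)) le_N_kr).eq_bot_iff.1 (quo_eq_bot e))

/-- Sylow subgroups of type `U₃(q)` -/
structure U3S (S : Subgroup G) (q : ℕ) : Prop where
  inv : ∀ x ∈ S, x * x = 1 ↔ x ∈ C(S)
  sq : ∀ x ∈ S, x * x ∈ C(S)
  comm : ∀ x ∈ S, x ∉ C(S) → Z(S) ≤ ⁅zpowers x, S⁆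
  ab : ∀ x ∈ S, x ∉ C(S) → Abel (S ⊓ C1(x))
  cZ : Nat.card ↥Z(S) = q
  cS : Nat.card S = q ^ 3
  lt : 2 < q

theorem u3s_of {F : Type*} [Field F] [Finite F] [CharP F 2] {σ : F ≃+* F} {f z : S → F} (h : H3.U3D σ f z)
    (hF : Nat.card F = q ^ 2) (lt : 2 < q) : U3S S q := by
  have c : ∀ x : S, (x : G) ∈ C(S) ↔ f x = 0 := fun x => by
    rw [← h.mem_center, mem_center_iff, mem_C]
    exact ⟨fun k y => Subtype.ext (k y y.2), fun k y hy => congrArg Subtype.val (k ⟨y, hy⟩)⟩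
  refine ⟨fun x hx => ?_, fun x hx => (c (⟨x, hx⟩ * ⟨x, hx⟩)).2 (h.f_sq _), fun x hx n w hw => ?_,
    fun x hx n => cent_iff.2 fun y hy w hw => ?_, ?_, h.card hF, lt⟩
  · rw [c ⟨x, hx⟩, ← h.sq_eq_one, Subtype.ext_iff]; rfl
  · lift x to S using hx
    lift w to S using hw.1
    have a : f x ≠ 0 := mt (c x).2 n
    have b := (c w).1 hw.2
    obtain ⟨α, hα⟩ := H3.exists_trace_one h.inv h.ne
    obtain ⟨y, hy⟩ := h.f_surj (α * z w / σ (f x))
    have e : w * (y * x) = x * y := h.inj _ _ (by rw [h.mul_f, h.mul_f, h.mul_f, b, zero_add, add_comm]) (by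
      have a' : σ (f x) ≠ 0 := (map_ne_zero σ).2 a
      rw [h.mul_z, h.mul_z, h.mul_z, b, hy, map_div₀, map_mul, h.fix b, h.inv, map_zero]
      field_simp
      linear_combination (-z w) * hα + (z w * σ α) * CharTwo.two_eq_zero (R := F))
    have : (w : G) = ⁅(x : G), (y : G)⁆ := by
      rw [commutatorElement_def, show (x : G) * y = w * (y * x) from congrArg Subtype.val e.symm]; group
    exact this ▸ commutator_mem_commutator (mem_zpowers _) y.2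
  · lift x to S using hx
    lift y to S using hy.1
    lift w to S using hw.1
    have a : f x ≠ 0 := mt (c x).2 n
    have e1 := h.comm_iff.1 (Subtype.ext (mem_C1.1 hy.2) : y * x = x * y)
    have e2 := h.comm_iff.1 (Subtype.ext (mem_C1.1 hw.2) : w * x = x * w)
    exact congrArg Subtype.val (h.comm_iff.2 (mul_left_cancel₀ a (by linear_combination f w * e1 - f y * e2)))
  · rw [← map_subtype_center, card_map_subtype, h.card_center hF]

namespace U3S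
variable (h : U3S S q)
include h

theorem sqZ (hx : x ∈ S) : x * x ∈ Z(S) := ⟨mul_mem hx hx, h.sq x hx⟩
theorem elem : Elem 2 Z(S) := ⟨abel_Z, fun x hx => by rw [pow_two]; exact (h.inv x hx.1).2 hx.2⟩
theorem der : ⁅S, S⁆ ≤ Z(S) := H20.G3.der_le_of_sq fun _ => h.sqZ
theorem conj (ha : a ∈ Z(S)) (hg : g * a * g⁻¹ ∈ S) : g * a * g⁻¹ ∈ Z(S) :=
  ⟨hg, (h.inv _ hg).1 (conj_sq ((h.inv a ha.1).2 ha.2) g)⟩
theorem dich (hN : N ⊴ S) : N ≤ Z(S) ∨ Z(S) ≤ N := or_iff_not_imp_left.2 fun n =>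
  have ⟨x, hx, k⟩ := SetLike.not_le_iff_exists.1 n
  (h.comm x (hN.le hx) fun e => k ⟨hN.le hx, e⟩).trans
    ((H18.comm_mono (zpowers_le.2 hx) le_rfl).trans (comm_le_left hN.norm))
theorem not_le : ¬ S ≤ Z(S) := fun e => by
  have := card_le e
  have := h.lt
  rw [h.cZ, h.cS] at *
  nlinarith [Nat.pow_le_pow_left this.le 2]
theorem cent_le (hT : T ≤ S) (na : ¬ Abel T) : S ⊓ C(T) ≤ Z(S) := fun x hx => ⟨hx.1, by_contra fun n =>
  na ((h.ab x hx.1 n).mono (le_inf hT (le_C1_iff.2 hx.2)))⟩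

theorem nml (hS : IsSyl 2 S H) (hO : oQ 2 H = ⊥) (hl : lay H = ⊥) : H ≤ N(S) := by
  have c := centralizer_fit_le_of_lay_eq_bot hl
  rw [fit_eq_oP_of_oQ_eq_bot hO] at c
  have nQ := le_normalizer_oP 2 H
  have QS : oP 2 H ≤ S := hS.le_of_normalizer (oP_pgroup 2 H) (oP_le 2 H) (hS.le.trans nQ)
  have ZQ : Z(S) ≤ oP 2 H := (inf_le_inf hS.le (C_anti QS)).trans c
  have nZ : H ≤ N(Z(S)) := fun g hg => mem_N_of_finite fun x hx => h.conj hx (QS (conj_mem_N (nQ hg) (ZQ hx)))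
  have n : H ⊓ C(Z(S)) ⊓ qpre Z(S) C(oP 2 H ⫽ Z(S)) ⊴ H := ⟨inf_le_left.trans inf_le_left,
    norm_inf (norm_inf le_N (norm_C nZ)) (norm_mpre nZ (norm_C (mim_norm nQ)))⟩
  have p : IsPGroup 2 ↥(H ⊓ C(Z(S)) ⊓ qpre Z(S) C(oP 2 H ⫽ Z(S))) := pg_of_no_odd fun Y hY o => by
    have l := hY.trans n.le
    refine le_bot_iff.1 ((le_inf ((le_inf l (cent_symm (H1.cent_of_comm_le (U := Z(S)) ?_ (cent_symm
      (hY.trans (inf_le_left.trans inf_le_right))) (coprime_card_of_pgroup (pg_elem h.elem) o).symm))).trans c) le_rfl).trans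
      (pg_inf_od (oP_pgroup 2 H) o).le)
    exact (comm_le_iff_quo ((oP_le 2 H).trans nZ) (l.trans nZ)).2
      (cent_symm ((mim_mono (hY.trans inf_le_right)).trans mim_mpre_le))
  rw [← hS.eq_of_le p (le_inf (le_inf hS.le (cent_symm inf_le_right)) ((mim_le_iff (hS.le.trans nZ)).1
    ((comm_le_iff_quo (hS.le.trans nZ) ((oP_le 2 H).trans nZ)).1 ((H18.comm_mono le_rfl QS).trans h.der)))) n.le]
  exact n.norm

theorem not_abel (hS : IsSyl 2 S H) (hO : oQ 2 H = ⊥) (hL : IsPComp 2 L H) (hc : Z(S) ≤ kr L) : ¬ Abel (S ⊓ L) := fun ab => by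
  have sy := hS.inf_subn hL.subn
  have e := H1.AbS.inf_Z ⟨hall2 sy, ab⟩ hL.perfect
  exact syl_ne hL sy fun x hx => hc ⟨hx.1, (h.inv x hx.1).1 (mem_bot.1 (e.le
    ⟨mul_mem hx hx, kr_le_C (oQ_comp hL hO) (hc (h.sqZ hx.1))⟩))⟩

theorem not_cent [G0.{u}] (hS : IsSyl 2 S H) (hO : oQ 2 H = ⊥) (hL : IsPComp 2 L H) :
    ¬ ∀ J, IsPComp 2 J H → Z(S) ≤ kr J := fun hc => by
  have sy := hS.inf_subn hL.subn
  have kC := kr_le_C (oQ_comp hL hO)
  have cT := h.cent_le inf_le_left (h.not_abel hS hO hL (hc L hL))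
  have nL : S ≤ N(L) := fun s hs => mem_N_iff_cj.2 (by_contra fun n => by
    have hJ := hL.cj_of_mem_normalizer (le_N (hS.le hs))
    exact syl_ne hJ (hS.inf_subn hJ.subn) (((inf_le_inf_left _ ((comp_le_kr hL hJ n).trans
      (kC.trans (C_anti inf_le_right)))).trans cT).trans (hc _ hJ)))
  have ZT : Z(S) ≤ S ⊓ L := (h.dich ⟨inf_le_left, norm_inf le_N nL⟩).resolve_left fun e => syl_ne hL sy (e.trans (hc L hL))
  have tk : S ⊓ L ≤ N(kr L) := inf_le_right.trans le_N_kr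
  have sq := sy.mim (f := coset (kr L)) le_N_kr
  have ab : Abel ((S ⊓ L) ⫽ kr L) := (abel_quo_iff tk).2 (((der_mono inf_le_left).trans h.der).trans (hc L hL))
  obtain ⟨U, K, g, -⟩ := G0.gt (ns_kr hL.pqs) sq le_rfl (fun e => syl_ne hL sy ((quo_eq_bot_iff tk).1 e)) ab
    fun _ _ _ _ h => h
  have m : ∀ x ∈ S ⊓ L, cs (kr L) x ∈ U := fun x hx => g.memU.2 ⟨mfun_mem_mim hx, by
    rw [← mfun_mul (tk hx) (tk hx)]; exact cs_eq_one (hc L hL (h.sqZ hx.1))⟩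
  obtain ⟨x, hx, n⟩ := SetLike.not_le_iff_exists.1 (syl_ne hL sy)
  have k : ∀ y ∈ S ⊓ L, y * y ∈ zpowers (x * x) := fun y hy => by
    by_cases e : y ∈ kr L
    · rw [(h.inv y hy.1).2 (cT ⟨hy.1, C_anti inf_le_right (kC e)⟩).2]; exact one_mem _
    obtain ⟨k, hk, e'⟩ := g.trans _ (m x hx) (mt (cs_eq_one_iff (tk hx)).1 n) _ (m y hy) (mt (cs_eq_one_iff (tk hy)).1 e)
    obtain ⟨k, hk', kn, rfl⟩ := mem_mim.1 (mim_N_syl sy le_N_kr (g.leK hk).1 (g.leK hk).2)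
    have w := conj_mem_N hk'.2 hx
    rw [← mfun_conj kn (tk hx), cs_eq_iff (tk w) (tk hy)] at e'
    have c := cT ⟨(mul_mem (inv_mem w) hy).1, C_anti inf_le_right (kC e')⟩
    have e1 := mem_C.1 c.2 _ w.1
    have e2 := (h.inv _ c.1).2 c.2
    have e3 := mem_C.1 (kC (hc L hL (h.sqZ hx.1))) k hk'.1
    generalize hu : (k * x * k⁻¹)⁻¹ * y = u at e1 e2
    have : y * y = x * x := by
      calc y * y = k * x * k⁻¹ * (u * (k * x * k⁻¹)) * u := by rw [← hu]; group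
        _ = k * (x * x) * k⁻¹ * (u * u) := by rw [← e1]; group
        _ = _ := by rw [e2, e3]; group
    exact this ▸ mem_zpowers _
  have := card_le ((le_inf (le_inf ZT ((hc L hL).trans kC)) ((ZT.trans inf_le_right).trans hL.perfect.ge)).trans
    ((H22.Hall.inf_Z_der Nat.prime_two (hall2 sy)).trans (H20.G3.der_le_of_sq k)))
  rw [h.cZ, Nat.card_zpowers] at this
  exact (this.trans (Nat.le_of_dvd two_pos (orderOf_dvd_of_pow_eq_one (h.elem.pow _ (h.sqZ hx.1))))).not_gt h.lt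

theorem psu [G0.{u}] (hS : IsSyl 2 S H) (hO : oQ 2 H = ⊥) (hL : IsPComp 2 L H) (hc : ¬ Z(S) ≤ kr L) :
    L ⊴ H ∧ S ≤ L ∧ ∃ (F : Type) (_ : Field F) (_ : Fintype F), Fintype.card F = q ^ 2 ∧ Nonempty (L ≃* PSU 3 F q) := by
  have ls := ls_of hS inf_le_left h.elem fun a ha g _ => h.conj ha
  obtain ⟨K, d⟩ := ls.ld hL hc
  obtain ⟨z, hz, n⟩ := SetLike.not_le_iff_exists.1 (mt (ls.inf_le_iff hL).1 hc)
  have nL : S ≤ N(L) := fun s hs => mem_N_iff_cj.2 (by_contra fun e => n (comp_le_kr hL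
    (hL.cj_of_mem_normalizer (le_N (hS.le hs))) e (mem_cj'.2 ⟨z, hz.2, by rw [mem_C.1 hz.1.2 s hs, mul_inv_cancel_right]⟩)))
  have nk := nL.trans N_le_N_kr
  have EZ : S ⊓ kr L ≤ Z(S) := (h.dich ⟨inf_le_left, norm_inf le_N nk⟩).resolve_right fun e => hc (e.trans inf_le_right)
  have k : ∀ {X}, X ≤ S → S ⫽ kr L ≤ X ⫽ kr L → S ≤ X ⊔ Z(S) := fun {X} hX e => by
    refine le_trans ?_ (sup_le_sup_left EZ X)
    rw [← Nrm2.modular_left (Or.inl (hX.trans nk)) hX]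
    exact le_inf le_rfl ((quo_le_quo_iff nk (hX.trans nk)).1 e)
  have l := k inf_le_left (d.gt.inner_le hL.perfect inf_le_right hS.pgroup nL (norm_inf le_N nL)
    (mim_cent (cent_symm inf_le_right)) (by
      rw [← mim_comm (inf_le_left.trans nk) nk]; exact mim_mono ((H18.comm_mono inf_le_left le_rfl).trans h.der)))
  have SL : S ≤ L := l.trans (sup_le inf_le_right (((h.dich ⟨inf_le_left, norm_inf le_N nL⟩).resolve_left
    fun e => h.not_le (l.trans (sup_le e le_rfl))).trans inf_le_right))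
  have alt := d.alt
  rw [inf_eq_left.2 SL] at alt
  have ne : ¬ S ⫽ kr L ≤ Z(S) ⫽ kr L := fun e => h.not_le ((k inf_le_left e).trans (sup_idem _).le)
  obtain ⟨H', D, V, W, t, s, b⟩ := H9.bs_of (alt.resolve_right fun e => ne e.2.1.le)
  have c1 := card_inf_mul_relIndex (kr L) S
  have c2 := card_inf_mul_relIndex (kr L) Z(S)
  rw [← card_quo nk, h.cS, inf_comm] at c1
  rw [← card_quo (inf_le_left.trans nk), h.cZ, inf_comm, le_antisymm (inf_le_inf_right _ inf_le_left)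
    (le_inf EZ inf_le_right)] at c2
  have lt := h.lt
  have p := b.lt
  obtain ⟨c, ⟨e, -⟩ | ⟨e, -⟩ | ⟨e, na, o, ω, hω, ζ, hζ, n', g, hg, x, hx, e'⟩⟩ := H19.concl b.toSuz b.lt
  · exact absurd (eq_of_le_of_card_ge (mim_mono inf_le_left) e.le).ge ne
  · rw [e, ← c2] at c1
    have := Nat.card_pos (α := ↥(S ⊓ kr L))
    generalize Nat.card ↥(S ⊓ kr L) = a at *
    generalize Nat.card ↥(Z(S) ⫽ kr L) = b at *
    have : a * b ^ 2 * 1 = a * b ^ 2 * (a ^ 2 * b) := by rw [mul_one]; exact c1.trans (by ring)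
    have := Nat.eq_of_mul_eq_mul_left (by positivity) this
    nlinarith [Nat.one_le_pow 2 a ‹_›]
  have e1 : S ⊓ kr L = ⊥ := by
    rw [e, ← c2] at c1
    have := Nat.card_pos (α := ↥(S ⊓ kr L))
    refine card_eq_one.1 ?_
    generalize Nat.card ↥(S ⊓ kr L) = a at *
    generalize Nat.card ↥(Z(S) ⫽ kr L) = b at *
    have : a * b ^ 3 * 1 = a * b ^ 3 * a ^ 2 := by rw [mul_one]; exact c1.trans (by ring)
    exact (Nat.pow_eq_one.1 (Nat.eq_of_mul_eq_mul_left (by positivity) this).symm).resolve_right two_ne_zero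
  rw [e1, card_bot, one_mul] at c2
  obtain ⟨F, _, _, m, -, h1, h2, ⟨f⟩⟩ := H5.psu_of_omega b.toSuz b.ker b.lt (H19.suzIH b.toSuz) c na e o hω hζ n' hg hx e'
  rw [← h2, c2] at h1 f
  have e2 : L ⊓ kr L = ⊥ := le_bot_iff.1 ((le_inf ((inf_comm L _).le.trans ((kr_inf_le hL hO).trans
    (hS.le_of_normalizer (oP_pgroup 2 H) (oP_le 2 H) (hS.le.trans (le_normalizer_oP 2 H))))) inf_le_right).trans e1.le)
  refine ⟨⟨hL.le, fun g hg => mem_N_iff_cj.2 (by_contra fun n => ?_)⟩, SL, F, _, _, h1,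
    ⟨(mimEquiv (coset (kr L)) L le_N_kr (by rw [mker_coset, e2])).trans ((MulEquiv.subgroupCongr b.gen.symm).trans f)⟩⟩
  have hJ := hL.cj_of_mem_normalizer (le_N hg)
  exact syl_ne hJ (hS.inf_subn hJ.subn) (((inf_le_inf_left _ (comp_le_kr hL hJ n)).trans e1.le).trans bot_le)

theorem main [G0.{u}] (hS : IsSyl 2 S H) (hO : oQ 2 H = ⊥) : H ≤ N(S) ∨ ∃ L, L ⊴ H ∧ S ≤ L ∧
    ∃ (F : Type) (_ : Field F) (_ : Fintype F), Fintype.card F = q ^ 2 ∧ Nonempty (L ≃* PSU 3 F q) := by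
  by_cases e : lay H = ⊥
  · exact .inl (h.nml hS hO e)
  obtain ⟨L, hL⟩ := not_forall_not.1 (mt lay_eq_bot_iff.2 e)
  obtain ⟨J, hJ⟩ := not_forall.1 (h.not_cent hS hO ((isPComp_iff_isComp hO).2 hL))
  exact .inr ⟨J, h.psu hS hO (Classical.not_imp.1 hJ).1 (Classical.not_imp.1 hJ).2⟩

end U3S

theorem s3177 [G0.{u}] (n : ℕ) (hn : 2 ≤ n) {F : Type*} [Field F] [Fintype F] (hF : Fintype.card F = 4 ^ n)
    (S : Sylow 2 G) (P : Sylow 2 (PSU 3 F (2 ^ n)))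
    (hS : Nonempty (↥(S : Subgroup G) ≃* ↥(P : Subgroup (PSU 3 F (2 ^ n))))) :
    (Group.IsSolvable G ∧ PLengthLE 2 1 G) ∨
      ∃ N : Subgroup (G ⧸ oddCore G), N.Normal ∧ Odd N.index ∧ Nonempty (↥N ≃* PSU 3 F (2 ^ n)) := by
  have hF' : Fintype.card F = (2 ^ n) ^ 2 := by rw [hF, ← pow_mul, mul_comm, pow_mul]; rfl
  obtain ⟨e⟩ := hS
  obtain ⟨_, σ, f, z, -, u⟩ := H3.exists_u3d_PSU hF' P
  have sy := isSyl_sylow S
  have o : Od (oddCore G) := by have := od_oQ (H := (⊤ : Subgroup G)); rwa [oQ_top] at this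
  have sq := sy.mim (f := topq (oddCore G)) le_rfl
  rw [mim_topq_top] at sq
  have h := u3s_of (u.equiv ((mimEquiv (topq (oddCore G)) S le_top (by
    rw [mker_topq]; exact pg_inf_od sy.pgroup o)).symm.trans e)) (Nat.card_eq_fintype_card.trans hF')
    ((by norm_num : 2 < 2 ^ 2).trans_le (Nat.pow_le_pow_right two_pos hn))
  rcases h.main sq (oQ_top_quotient G 2) with k | ⟨L, nL, l, K, _, _, c, ⟨g⟩⟩
  · have k' : ⊤ ≤ N(oddCore G ⊔ S) := by
      rw [sup_comm, ← mker_topq (oddCore G), ← mpre_mim le_top]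
      exact norm_mpre le_rfl (by rwa [mim_topq_top])
    have o' : PiGrp {2}ᶜ (oddCore G) := (piNat_compl_iff Nat.prime_two).2 o
    refine .inl ⟨?_, (pl1_top_iff Nat.prime_two).1 (pl1_of_nml_sup nml_top o' (hall2 sy) k')⟩
    exact solv_top_iff.1 (solv_of_quo k' (od_solv (by
      rw [Od, card_quo k']; exact sy.not_dvd_relIndex le_sup_right)) ((od_solv o).sup (pg_pi sy.pgroup).solv
      (.inr (le_top.trans nml_top.norm))))
  · obtain ⟨g'⟩ := H2.PSU_congr (FiniteField.ringEquivOfCardEq (c.trans hF'.symm)) 3 (2 ^ n)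
    refine .inr ⟨L, nL.normal, ?_, ⟨g.trans g'⟩⟩
    rw [← relIndex_top_right, ← Nat.not_even_iff_odd, even_iff_two_dvd]; exact sq.not_dvd_relIndex l

end H4.Gs
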