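import Mathlib

/-! A finite subgroup of the units of a division ring of characteristic `p` is abelian. -/
set_option autoImplicit false
namespace H4.AmP

theorem pP {D : Type*} [DivisionRing D] (H : Subgroup Dˣ) [Finite H] (p : ℕ) [Fact p.Prime] [CharP D p] (a b : H) :
    a * b = b * a := by
  letI : Algebra (ZMod p) D := ZMod.algebra D p
  let f : MonoidAlgebra (ZMod p) H →ₐ[ZMod p] D := MonoidAlgebra.lift (ZMod p) D H ((Units.coeHom D).comp H.subtype)
  haveI : Finite (MonoidAlgebra (ZMod p) H) := Module.finite_of_finite (ZMod p)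
  haveI : Finite f.range := Finite.of_surjective f.rangeRestrict f.rangeRestrict_surjective
  have h := (Finite.isDomain_to_isField f.range).mul_comm ⟨_, MonoidAlgebra.of _ _ a, rfl⟩ ⟨_, MonoidAlgebra.of _ _ b, rfl⟩
  have e := congrArg Subtype.val h
  apply Subtype.ext
  apply Units.ext
  simpa [f] using e

end H4.AmP
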