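import Cfsg.Agent.H15.Kl0
import Cfsg.Agent.H7.Sect

/-! Piece `PA` of S4606: `k(B) = l(B) + 1` leaves one class of nontrivial subsections. -/
set_option autoImplicit false
namespace H4.KlA
open Cfsg H5 H7
universe u

theorem pA : H15.Kl.PA.{u} := by
  intro G _ _ p _ M hM B hB hk x y x1 y1 hx hy b b' hb hb'
  classical
  haveI : PM p M := ⟨hM⟩
  have := Fintype.ofFinite G
  have sB := isSat_of_isPBlock hB
  let o : G → G := fun g => (ConjClasses.mk g).out
  have oc : ∀ g, IsConj g (o g) := fun g => ConjClasses.mk_eq_mk_iff_isConj.1 (Quotient.out_eq _).symm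
  have oe : ∀ g h, IsConj g h → o g = o h := fun g h e => by
    simp only [o, ConjClasses.mk_eq_mk_iff_isConj.2 e]
  have pe : ∀ g, IsPE p g → IsPE p (o g) := fun g hg => by
    obtain ⟨c, e⟩ := isConj_iff.1 (oc g); rw [← e]; exact hg.conj c
  let X : Finset G := (Finset.univ.filter (IsPE p)).image o
  have mX : ∀ g, IsPE p g → o g ∈ X := fun g hg => Finset.mem_image_of_mem _ (by simpa using hg)
  have s := card_eq_sum_lr (p := p) sB X (fun z hz => by
      obtain ⟨g, hg, rfl⟩ := Finset.mem_image.1 hz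
      exact pe g (by simpa using hg)) (fun g hg _ => ⟨_, mX g hg, oc g⟩) fun z hz w hw e => by
      obtain ⟨g, -, rfl⟩ := Finset.mem_image.1 hz
      obtain ⟨h, -, rfl⟩ := Finset.mem_image.1 hw
      exact oe _ _ ((oc g).trans (e.trans (oc h).symm))
  have le : ∀ (z : G) (c : Set (IrrCharacter (Subgroup.centralizer ({z} : Set G)))), IsPE p z →
      IsInducedBlock M _ c B → 0 < blockRank p c ∧ blockRank p c ≤ lr M p B (o z) := fun z c hz hc => by
    refine ⟨blockRank_pos (isSat_of_isPBlock hc.1) (block_nonempty hc.1), ?_⟩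
    rw [← lr_conj sB hz (oc z), lr_eq_sum hB hz, finsum_mem_eq_finite_toFinset_sum _ (Set.toFinite _)]
    exact Finset.single_le_sum (f := fun b => blockRank p b) (fun _ _ => Nat.zero_le _)
      (by simpa using isInducedBlock_iff_indB.1 hc)
  have l1 : lr M p B (o 1) = blockRank p B := by rw [← lr_conj sB isPE_one (oc 1), lr_one sB]
  have n : ∀ z, z ≠ 1 → o 1 ≠ o z := fun z h e => h (isConj_one_right.1 ((oc 1).trans (e ▸ (oc z).symm)))
  obtain ⟨a1, a2⟩ := le x b hx hb
  obtain ⟨a3, a4⟩ := le y b' hy hb'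
  constructor
  · by_contra c
    have n2 : o x ≠ o y := fun e => c ((oc x).trans (e ▸ (oc y).symm))
    have := Finset.sum_le_sum_of_subset (f := lr M p B) (s := {o 1, o x, o y}) (t := X) (by
      simp only [Finset.insert_subset_iff, Finset.singleton_subset_iff]
      exact ⟨mX 1 isPE_one, mX x hx, mX y hy⟩)
    rw [Finset.sum_insert (by simp [n x x1, n y y1]), Finset.sum_pair n2] at this
    omega
  · have := Finset.sum_le_sum_of_subset (f := lr M p B) (s := {o 1, o x}) (t := X) (by
      simp only [Finset.insert_subset_iff, Finset.singleton_subset_iff]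
      exact ⟨mX 1 isPE_one, mX x hx⟩)
    rw [Finset.sum_pair (n x x1)] at this
    omega

end H4.KlA
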