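import Cfsg.Agent.H4.Cor3
import Cfsg.Agent.H22.Rank1
import Cfsg.Agent.H9.MaxClass
import Cfsg.Agent.H16.Q8Aut
import Cfsg.Agent.H10.Small

/-! Sylow `2`-intersections of rank at most one (`RI`): `uq_main` (an almost simple group with a central involution in a
unique Sylow subgroup), `ti_bt`, `BT.a5`, `RI.simple`. -/

set_option autoImplicit false
set_option linter.unusedSectionVars false
set_option linter.unusedVariables false

namespace H4.Gs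
open Subgroup Cfsg H18
open H17 hiding Subn card_cj card_mul_relIndex cj cj_bot cj_cj_inv cj_fit cj_inf cj_inv_cj cj_mono cj_mul cj_one
  cj_sup conj_mem_cj elem_iff elem_zpowers fit_le fit_top le_phi mem_cj mim_cj mim_fit_le phi phi_le
open H22 (U1 ord2 sq1 ne1 inv_of_sq ord2_conj)
open scoped commutatorElement

universe u
variable {G : Type u} [Group G] [Finite G] {A B D E H K L M N P Q R S T U V W X Y Z : Subgroup G}
  {a b c e g l s t u v w x y z : G}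

theorem u1_of (h : prank 2 X ≤ 1) : U1 X := fun s hs t ht a b c =>
  four_le_of_rank ((prank_le_iff Nat.prime_two).1 h) hs ht a b c

theorem u1_uniq (h : U1 X) (p : IsPGroup 2 X) (hs : s ∈ X) (ht : t ∈ X) (h1 : orderOf s = 2) (h2 : orderOf t = 2) :
    t = s := h.uniq (pg_pi p) hs ht h1 h2

theorem u1_q (h : U1 X) (p : IsPGroup 2 X) : Cyc X ∨ ∃ n x y, H9.QData X (2 ^ (n + 1)) x y :=
  H9.isCyclic_or_qData p fun v hv w hw a b => u1_uniq h p hw hv b a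

theorem u1_cent (h : U1 X) (p : IsPGroup 2 X) (hT : T ≤ X) (nc : ¬ Cyc T) (hy : y ∈ X) (c : y ∈ C(T)) : y * y = 1 := by
  rcases u1_q h p with hc | ⟨n, x, w, d⟩
  · exact absurd (hc.of_le hT) nc
  by_contra y2
  by_cases o : y ∈ zpowers x
  · exact nc (cyc_zpowers.of_le fun t ht => d.mem_zpowers_of_commute (hT ht) o y2 (mem_C.1 c t ht))
  · exact nc (cyc_zpowers.of_le fun t ht => d.mem_zpowers_of_commute' hy o (hT ht) (mem_C.1 c t ht))

theorem u1_mem (h : U1 X) (p : IsPGroup 2 X) (hz : z ∈ X) (z2 : orderOf z = 2) (hy : y ∈ X) (y2 : y * y = 1) :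
    y ∈ zpowers z := (em (y = 1)).elim (fun e => e ▸ one_mem _) fun e =>
  u1_uniq h p hz hy z2 (ord2.2 ⟨y2, e⟩) ▸ mem_zpowers _

theorem u1_small (h : U1 X) (p : IsPGroup 2 X) (hT : T ≤ X) (nc : ¬ Cyc T) (hz : z ∈ X) (z2 : orderOf z = 2) :
    X ⊓ C(T) ≤ zpowers z := fun y hy => u1_mem h p hz z2 hy.1 (u1_cent h p hT nc hy.1 hy.2)

theorem exists_inv2 (p : IsPGroup 2 X) (h : X ≠ ⊥) : ∃ z ∈ X, orderOf z = 2 :=
  have := Fact.mk Nat.prime_two
  exists_orderOf_of_ne_bot p h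

/-- Sylow intersections of rank at most one -/
def RI (H : Subgroup G) : Prop := ∀ S T, IsSyl 2 S H → IsSyl 2 T H → S ≠ T → prank 2 (S ⊓ T) ≤ 1

theorem RI.eq (h : RI H) (hS : IsSyl 2 S H) (hT : IsSyl 2 T H) (h1 : X ≤ S) (h2 : X ≤ T) (n : ¬ U1 X) : S = T :=
  by_contra fun e => n ((u1_of (h S T hS hT e)).of_le (le_inf h1 h2))

theorem RI.eq' (h : RI H) (hS : IsSyl 2 S H) (hT : IsSyl 2 T H) (hs : s ∈ S ⊓ T) (ht : t ∈ S ⊓ T) (s2 : orderOf s = 2)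
    (t2 : orderOf t = 2) (n : t ≠ s) : S = T :=
  h.eq hS hT inf_le_left inf_le_right fun u => n (u1_uniq u hS.pgroup.to_inf_left hs ht s2 t2)

theorem GT.not_u1 (g : GT L T U K) : ¬ U1 U := fun h => by
  obtain ⟨x, hx, x1, -⟩ := g.exists_ne (one_mem U)
  obtain ⟨y, hy, y1, n⟩ := g.exists_ne hx
  exact n (u1_uniq h (g.syl.pgroup.to_le g.le) hx hy (ord2.2 ⟨(g.memU.1 hx).2, x1⟩) (ord2.2 ⟨(g.memU.1 hy).2, y1⟩))

theorem omega_gt [G0.{u}] (ns : NS L) (hT : IsSyl 2 T L)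
    (h : ∀ x ∈ T ⊓ C(T), ∀ g ∈ L, orderOf x = 2 → g * x * g⁻¹ ∈ T → g * x * g⁻¹ ∈ C(T)) :
    ∃ U K, GT L T U K ∧ (BT L T U K ∨ T = U) :=
  G0.gt ns hT (omega_le.trans inf_le_left) ((pg_pi hT.pgroup).omegaZ_ne_bot fun e => ns.not_od (hT.eq_bot_iff.1 e))
    omegaZ_elem.abel fun x hx g hg m => (em (x = 1)).elim (fun e => by simp [e]) fun e =>
      mem_omega ⟨m, h x (omega_le hx) g hg (ord2.2 ⟨sq_elem omegaZ_elem hx, e⟩) m⟩
        (by rw [pow_two, conj_sq (sq_elem omegaZ_elem hx)])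

theorem GT.se (g : GT L T U K) (ti : ∀ x ∈ L, T ⊓ cj x T = ⊥ ∨ x ∈ N(T)) : HasSE L :=
  GBF.se g fun u hu u1 x hx => g.nU ((ti x hx.1).resolve_left fun e => u1 (mem_bot.1 (e.le ⟨g.le hu,
    mem_cj'.2 ⟨u, g.le hu, by rw [mem_C1.1 hx.2, mul_inv_cancel_right]⟩⟩)))

theorem ti_bt [G0.{u}] (ns : NS L) (hT : IsSyl 2 T L) (ti : ∀ x ∈ L, T ⊓ cj x T = ⊥ ∨ x ∈ N(T)) : ∃ U K, BT L T U K := by
  obtain ⟨U, K, g, -⟩ := omega_gt ns hT fun x hx g hg x2 m => conj_mem_N (N_le_N_C ((ti g hg).resolve_left fun e =>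
    conj_ne (ne1 x2) g (mem_bot.1 (e.le ⟨m, conj_mem_cj hx.1⟩)))) hx.2
  exact GBF.bt ns.simple ns.na (g.se ti) hT

theorem BT.ti (b : BT L T U K) (hx : x ∈ L) : T ⊓ cj x T = ⊥ ∨ x ∈ N(T) := by
  obtain ⟨-, H, D, V, W, t, s, z⟩ := b
  exact (em (x ∈ H)).symm.imp (fun n => eq_bot_iff.2 ((inf_le_inf_left _ (cj_mono z.leQ)).trans (z.Q_inf_cj hx n).le))
    fun h => z.nQ h

theorem BT.a5 (b : BT L T U K) (c : Nat.card T = 4) : Nonempty (L ≃* alternatingGroup (Fin 5)) := by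
  obtain ⟨g, H, D, V, W, t, s, z⟩ := b
  have := g.simple
  have i : (H.subgroupOf L).index = 5 := z.relIndex_H.trans (by rw [c])
  obtain ⟨f, hf⟩ := H10.exists_injective_alt_of_simple (G := L) (fun e => g.nab (abel_iff.2 e)) (H := H.subgroupOf L)
    fun e => by rw [e, index_top] at i; omega
  have d := Subgroup.card_dvd_of_injective f hf
  have e := z.card
  have : Nontrivial (Fin (H.subgroupOf L).index) := Fin.nontrivial_iff_two_le.2 (by omega)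
  rw [nat_card_alternatingGroup, Nat.card_fin, i] at d
  rw [z.cardH, c] at e
  refine Cfsg.Agent.S0494.result ?_
  have o := z.odd
  have : Nat.card D ∣ 3 := Nat.dvd_of_mul_dvd_mul_left (k := 20) (by norm_num) (by
    rw [show 20 * Nat.card D = Nat.card L by omega]; simpa [Nat.factorial] using d)
  rcases (Nat.dvd_prime Nat.prime_three).1 this with k | k <;> rw [k] at e
  · exact absurd (H5.burnside_paqb_dvd (a := 2) (b := 1) Nat.prime_two Nat.prime_five (by rw [e]; norm_num))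
      (NS.mk g.simple g.nab).not_solv
  · exact e

theorem uq_main [G0.{u}] (ns : NS L) (hS : IsSyl 2 S ⊤) (nL : ⊤ ≤ N(L)) (cL : C(L) ≤ ⊥) (hv : v ∈ S ⊓ C(S))
    (v2 : orderOf v = 2) (uq : ∀ T, IsSyl 2 T ⊤ → v ∈ T → T = S) :
    S ≤ L ∧ HasSE L ∧ (∀ T, IsSyl 2 T ⊤ → T ≠ S → S ⊓ T = ⊥) ∧ ∃ U K, GT L S U K := by
  have := Fact.mk Nat.prime_two
  have hT := hS.inf_normal le_top (le_top.trans nL)
  obtain ⟨U, K, g, alt⟩ := omega_gt ns hT fun x hx g hg x2 m => by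
    obtain ⟨P, hP, l⟩ := exists_isSyl_ge (pg_zp (sq1 v2)) (zpowers_le.2 (mem_C1_comm.1 (le_C1_iff.2 hv.2 m.1)))
    obtain ⟨S', s, l'⟩ := exists_isSyl_ge hP.pgroup le_top
    rw [uq S' s (l' (l (mem_zpowers v)))] at l'
    have k := (hP.inf_normal (K := L ⊓ C1(g * x * g⁻¹)) inf_le_right (norm_inf (le_top.trans nL) (le_norm hP.le))).card_dvd
      (isPGroup_cj g hT.pgroup) (le_inf (hT.cj_of_mem_normalizer (le_N hg)).le (by
        rw [← cj_C1]; exact cj_mono (le_C1_iff.2 hx.2)))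
    rw [H17.card_cj] at k
    have l2 : P ⊓ (L ⊓ C1(g * x * g⁻¹)) ≤ S ⊓ L := inf_le_inf l' inf_le_left
    exact le_C1_iff.1 ((eq_of_card_eq l2 (le_antisymm (card_le l2) (Nat.le_of_dvd Nat.card_pos k))).ge.trans
      (inf_le_right.trans inf_le_right))
  have vC : v ∈ C(S ⊓ L) := C_anti inf_le_left hv.2
  obtain ⟨t, ht, e⟩ := g.inner v ⟨⟨nL trivial, C_le_N vC⟩, C_anti g.le vC⟩ (pg_zp (sq1 v2))
    ((comm_eq_bot_iff.2 (cent_symm (zpowers_le.2 vC))).le.trans bot_le)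
  have vT : v ∈ S ⊓ L := inv_mul_eq_one.1 (mem_bot.1 (cL e)) ▸ ht
  have n3 : ∀ x ∈ N(S ⊓ L), x ∈ N(S) := fun x hx => mem_N_iff_cj.2 (uq _ (hS.cj_of_mem_normalizer (le_N trivial))
    (cj_mono inf_le_left ((mem_N_iff_cj.1 hx).ge vT)))
  have l : S ≤ L := (g.le_sup alt hS.pgroup (le_top.trans nL) (norm_inf le_N (le_top.trans nL)) fun x hx => n3 x hx.2).trans
    (sup_le inf_le_right (cL.trans bot_le))
  rw [inf_eq_left.2 l] at g
  have ti : ∀ T, IsSyl 2 T ⊤ → T ≠ S → S ⊓ T = ⊥ := fun T s n => by_contra fun e => by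
    obtain ⟨w, hw, w2⟩ := exists_inv2 hS.pgroup.to_inf_left e
    obtain ⟨k, hk, e⟩ := g.trans w (g.memU.2 ⟨hw.1, sq1 w2⟩) (ne1 w2) v (g.memU.2 ⟨hv.1, sq1 v2⟩) (ne1 v2)
    have := uq _ (s.cj_of_mem_normalizer (le_N (mem_top k))) (e ▸ conj_mem_cj hw.2)
    exact n (by rw [← cj_inv_cj (g := k) (H := T)]; exact (congrArg _ this).trans (mem_N_iff_cj.1 (inv_mem (g.leK hk).2)))
  exact ⟨l, g.se fun x _ => (em _).symm.imp (fun n => ti _ (hS.cj_of_mem_normalizer (le_N trivial)) n) mem_N_iff_cj.2, ti,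
    U, K, g⟩

theorem RI.simple [G0.{u}] (h : RI (⊤ : Subgroup G)) (ns : NS L) (nL : ⊤ ≤ N(L)) (cL : C(L) ≤ ⊥) (hS : IsSyl 2 S ⊤)
    (hR : IsSyl 2 R ⊤) (n : S ≠ R) : Cyc (S ⊓ R) := by
  have := Fact.mk Nat.prime_two
  have hT := hS.inf_normal le_top (le_top.trans nL)
  obtain ⟨U, K, g, alt⟩ := omega_gt ns hT fun x hx g hg x2 m => by
    by_contra n
    obtain ⟨P, hP, l⟩ := exists_isSyl_ge (P := S ⊓ L ⊓ C1(g * x * g⁻¹)) (H := L ⊓ C1(g * x * g⁻¹))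
      hT.pgroup.to_inf_left (inf_le_inf_right _ hT.le)
    have s := hT.cj_of_mem_normalizer (le_N hg)
    have hP' : IsSyl 2 P L := hP.trans inf_le_left (s.not_dvd_relIndex (le_inf s.le (by
      rw [← cj_C1]; exact cj_mono (le_C1_iff.2 hx.2))))
    obtain ⟨S', s', l'⟩ := exists_isSyl_ge hP.pgroup le_top
    have e := h.eq' hS s' ⟨hx.1.1, l' (l ⟨hx.1, mem_C1_comm.1 (le_C1_iff.2 hx.2 m)⟩)⟩ ⟨m.1, l' (l ⟨m, C1_self⟩)⟩ x2
      (ord2_conj x2 g) fun e => n (e.symm ▸ hx.2)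
    exact n (le_C1_iff.1 ((hP'.eq_of_le hT.pgroup (le_inf (e ▸ l') hP'.le) hT.le).le.trans (hP.le.trans inf_le_right)))
  have l : S ≤ L := (g.le_sup alt hS.pgroup (le_top.trans nL) (norm_inf le_N (le_top.trans nL)) fun x hx =>
    mem_N_iff_cj.2 (h.eq (hS.cj_of_mem_normalizer (le_N trivial)) hS (g.le.trans ((mem_N_iff_cj.1 hx.2).ge.trans
      (cj_mono inf_le_left))) (g.le.trans inf_le_left) g.not_u1)).trans (sup_le inf_le_right (cL.trans bot_le))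
  rw [inf_eq_left.2 l] at g alt
  rcases alt with b | rfl
  · obtain ⟨x, -, rfl⟩ := hS.exists_cj_eq hR
    obtain ⟨y, hy, e⟩ := g.syl.exists_cj_eq (hR.mono ((cj_mono l).trans (cj_eq_self (nL trivial)).le) le_top)
    rcases b.ti hy with k | k
    · change Cyc (S ⊓ cj x S)
      rw [show cj x S = cj y S from e.symm, k]; exact cyc_bot
    · exact absurd ((mem_N_iff_cj.1 k).symm.trans e) n
  · exact (Abel.mono g.cent inf_le_left).cyc_of_prank Nat.prime_two (pg_pi hS.pgroup.to_inf_left) (h _ _ hS hR n)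

end H4.Gs
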