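import Cfsg.Agent.H4.DD2
import Cfsg.Agent.H18.SEB

/-! Sectional rank at most four: `SR4`, `E16.sr4`, `s1235`. -/

set_option autoImplicit false
set_option linter.unusedSectionVars false
set_option linter.unusedVariables false

namespace H4.Gs
open Subgroup Cfsg H18
open H17 hiding Subn card_cj card_mul_relIndex cj cj_bot cj_cj_inv cj_fit cj_inf cj_inv_cj cj_mono cj_mul cj_one
  cj_sup conj_mem_cj elem_iff elem_zpowers fit_le fit_top le_phi mem_cj mim_cj mim_fit_le phi phi_le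
open H22 (Dih ord2 sq1 ne1 inv_of_sq)
open scoped commutatorElement

universe u
variable {G : Type u} [Group G] [Finite G] {A B D H K M N R S T U W X Y : Subgroup G} {a b c d e g s t x y z : G}

theorem sec_of' {p k : ℕ} (h : ∀ H N : Subgroup G, N ≤ H → ⁅H, H⁆ ≤ N → (∀ y ∈ H, y ^ p ∈ N) →
    N.relIndex H ≤ p ^ k) : SectionalPRankLE p k G := by
  intro H N hN A hA hp
  let f : H →* H ⧸ N := QuotientGroup.mk' N
  have l : N ≤ A.comap f := fun x hx => by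
    rw [mem_comap, show f x = 1 from (QuotientGroup.eq_one_iff x).2 hx]; exact one_mem _
  have e := h ((A.comap f).map H.subtype) (N.map H.subtype) (map_mono l) (by
    rw [← map_commutator]
    refine map_mono (commutator_le.2 fun a ha b hb => (QuotientGroup.eq_one_iff _).1 ?_)
    show f _ = 1
    rw [map_commutatorElement, commutatorElement_eq_one_iff_mul_comm]
    exact congrArg Subtype.val (hA.is_comm.comm ⟨_, ha⟩ ⟨_, hb⟩)) (by
    rintro _ ⟨y, hy, rfl⟩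
    refine ⟨y ^ p, (QuotientGroup.eq_one_iff _).1 ?_, by simp⟩
    show f _ = 1
    rw [map_pow]; exact hp _ hy)
  rw [relIndex_map_map_of_injective _ _ H.subtype_injective] at e
  have : N.relIndex (A.comap f) = Nat.card A := by
    have : N = (⊥ : Subgroup (H ⧸ N)).comap f := by rw [MonoidHom.comap_bot, QuotientGroup.ker_mk']
    rw [show N.relIndex (A.comap f) = ((⊥ : Subgroup (H ⧸ N)).comap f).relIndex (A.comap f) by rw [← this],
      relIndex_comap, map_comap_eq_self_of_surjective (QuotientGroup.mk'_surjective N), relIndex_bot_left]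
  rwa [this] at e

def SR4 (S : Subgroup G) : Prop := ∀ H ≤ S, ∀ N, ⁅H, H⁆ ≤ N → (∀ y ∈ H, y * y ∈ N) →
  Nat.card H ≤ 16 * Nat.card (N ⊓ H : Subgroup G)

theorem SR4.sec (hS : IsSyl 2 S ⊤) (h : SR4 S) : SectionalPRankLE 2 4 G := sec_of' fun H N l h2 h3 => by
  have := Fact.mk Nat.prime_two
  obtain ⟨P, hP⟩ := exists_isSyl 2 H
  obtain ⟨g, -, k⟩ := hS.exists_le_cj hP.pgroup le_top
  have n := norm_of_der_le h2 l
  have s := hP.mim (f := coset N) n
  have e : H = P ⊔ N := le_antisymm ((quo_le_quo_iff n (hP.le.trans n)).1 (s.eq_of_le (fun ⟨x, hx⟩ => by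
    obtain ⟨y, hy, rfl⟩ := (mem_quo n).1 hx
    exact ⟨1, Subtype.ext (by
      change mfun (coset N) y ^ 2 ^ 1 = 1
      rw [← mfun_pow (n hy)]; exact (cs_eq_one_iff (n (pow_mem hy _))).2 (h3 y hy))⟩) s.le le_rfl).le) (sup_le hP.le l)
  have := h _ (le_cj_iff.1 k) (cj g⁻¹ N) (cj_comm.ge.trans (cj_mono ((der_mono hP.le).trans h2))) fun y hy => by
    obtain ⟨z, hz, rfl⟩ := mem_cj'.1 hy
    rw [← cj_mul']; exact conj_mem_cj (pow_two z ▸ h3 z (hP.le hz))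
  rw [← cj_inf, card_cj, card_cj, ← card_mul_relIndex' (A := N) (B := P), mul_comm] at this
  rw [e, relIndex_sup_of_norm (hP.le.trans n)]
  exact Nat.le_of_mul_le_mul_right this Nat.card_pos

theorem card_le_mul (h : H ≤ S) : Nat.card H ≤ Nat.card (X ⊓ H : Subgroup G) * X.relIndex S := by
  rw [← card_mul_relIndex' (A := X) (B := H)]
  exact Nat.mul_le_mul_left _ (relIndex_le_of_le_right h relIndex_ne_zero)

theorem two_mul_le (h : A ≤ B) (ha : a ∈ B) (na : a ∉ A) : 2 * Nat.card A ≤ Nat.card B := by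
  rw [← card_mul_relIndex h, mul_comm]
  exact Nat.mul_le_mul_left _ (one_lt_relIndex fun e => na (e ha))

theorem orb_le (h : ∀ x ∈ X, x * a * x⁻¹ * a⁻¹ ∈ M) : C1(a).relIndex X ≤ Nat.card M := by
  rw [← ncard_conj]
  exact (Set.ncard_le_ncard_of_injOn (fun z => z * a⁻¹) (t := M) (by rintro _ ⟨x, hx, rfl⟩; exact h x hx)
    (mul_left_injective _).injOn (Set.toFinite _)).trans (Nat.card_coe_set_eq _).ge

theorem free_le (hX : a ∈ N(X)) (hN : ∀ x ∈ X, x * a * x⁻¹ * a⁻¹ ∈ N) :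
    Nat.card X ≤ Nat.card (X ⊓ C1(a) : Subgroup G) * Nat.card (N ⊓ X : Subgroup G) := by
  rw [← card_mul_relIndex' (A := C1(a)) (B := X), inf_comm]
  exact Nat.mul_le_mul_left _ (orb_le fun x hx => ⟨hN x hx, by
    simpa [mul_assoc] using mul_mem hx (conj_mem_N hX (inv_mem hx))⟩)

theorem sr4_cyc (h : (zpowers x).relIndex S ≤ 8) : SR4 S := fun H hH N h1 h2 => by
  obtain ⟨w, e⟩ := cyc_iff.1 (cyc_zpowers.of_le (inf_le_left : zpowers x ⊓ H ≤ _))
  have wH := (e.le (mem_zpowers w)).2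
  have k : Nat.card (zpowers w) ≤ 2 * Nat.card (N ⊓ H : Subgroup G) := by
    refine le_trans ?_ (Nat.mul_le_mul_left 2 (card_le (zpowers_le.2 ⟨h2 w wH, mul_mem wH wH⟩ : zpowers (w * w) ≤ N ⊓ H)))
    rw [card_zpowers', card_zpowers']
    exact Nat.le_of_dvd (by have := orderOf_pos (w * w); omega) (orderOf_dvd_of_pow_eq_one (by
      rw [pow_mul, pow_two, pow_orderOf_eq_one]))
  have := card_le_mul (X := zpowers x) hH
  rw [← e] at this
  nlinarith

theorem exists_mod (hR : IsPGroup 2 R) (hT : T ⊴ R) (hW : R ≤ N(W)) (h : ¬ T ≤ W) :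
    ∃ t ∈ T, t ∉ W ∧ t * t ∈ W ∧ ∀ r ∈ R, r * t * r⁻¹ * t⁻¹ ∈ W := by
  have := Fact.mk Nat.prime_two
  have n := hT.le.trans hW
  have p := (pg_pi hR).mim (f := coset W).isPGroup
  obtain ⟨z, hz, o⟩ := exists_orderOf_of_ne_bot ((p.to_le (mim_mono hT.le)).to_le inf_le_left) (inf_centralizer_ne_bot
    (p.to_le (mim_mono hT.le)) p hT.mim.norm fun e => h ((quo_eq_bot_iff n).1 e))
  obtain ⟨t, ht, rfl⟩ := (mem_quo n).1 hz.1
  refine ⟨t, ht, fun e => ne1 o ((cs_eq_one_iff (n ht)).2 e), (cs_eq_one_iff (n (mul_mem ht ht))).1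
    ((mfun_mul (n ht) (n ht)).trans (sq1 o)), fun r hr => (cs_eq_one_iff (mul_mem (conj_mem le_N (hW hr) (n ht))
      (inv_mem (n ht)))).1 ?_⟩
  rw [mfun_mul (conj_mem le_N (hW hr) (n ht)) (inv_mem (n ht)), mfun_conj (hW hr) (n ht), mfun_inv (n ht),
    mem_C.1 hz.2 _ (mfun_mem_mim hr)]
  group

theorem le_or_le (h : ∀ u ∈ U, u ∈ A ∨ u ∈ B) : U ≤ A ∨ U ≤ B := by
  by_contra! n
  obtain ⟨a, ha, na⟩ := SetLike.not_le_iff_exists.1 n.1
  obtain ⟨b, hb, nb⟩ := SetLike.not_le_iff_exists.1 n.2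
  rcases h _ (mul_mem ha hb) with e | e
  · exact na ((mul_mem_cancel_right ((h b hb).resolve_right nb)).1 e)
  · exact nb ((mul_mem_cancel_left ((h a ha).resolve_left na)).1 e)

structure E16 (S T B : Subgroup G) : Prop where
  two : IsPGroup 2 S
  le : T ≤ S
  el : Elem 2 T
  card : Nat.card T = 16
  BT : B ≤ T
  cB : Nat.card B = 4
  cen : ∀ b ∈ B, b ≠ 1 → S ⊓ C1(b) ≤ T

namespace E16
variable (h : E16 S T B)
include h

theorem sq (ht : t ∈ T) : t * t = 1 := pow_two t ▸ h.el.2 t ht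
theorem sq' (ht : t ∈ cj g T) : t * t = 1 := pow_two t ▸ (h.el.cj g).2 t ht
theorem disj (ha : a ∈ S) (na : a ∉ T) : B ⊓ (T ⊓ C1(a)) = ⊥ := eq_bot_iff.2 fun b hb => by_contra fun b1 =>
  na (h.cen b hb.1 b1 ⟨ha, mem_C1_comm.1 hb.2.2⟩)
theorem card_sup (ha : a ∈ S) (na : a ∉ T) :
    Nat.card (B ⊔ T ⊓ C1(a) : Subgroup G) = 4 * Nat.card (T ⊓ C1(a) : Subgroup G) := by
  rw [Nrm2.card_sup_of_disj (Or.inl (cent_norm (h.BT.trans (h.el.1.trans (C_anti inf_le_left))))) (h.disj ha na), h.cB]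
theorem c4 (ha : a ∈ S) (na : a ∉ T) : Nat.card (T ⊓ C1(a) : Subgroup G) ≤ 4 := by
  have := card_le (sup_le h.BT (inf_le_left : T ⊓ C1(a) ≤ T))
  rw [h.card_sup ha na, h.card] at this
  omega

theorem idx : T.relIndex (S ⊓ N(T)) ≤ 4 := by
  have p : IsPGroup 2 (S ⊓ N(T) : Subgroup G) := h.two.to_le inf_le_left
  by_cases e : S ⊓ N(T) ≤ T
  · rw [relIndex_eq_one_iff.2 e]; omega
  obtain ⟨z, hz, nz, zz, k⟩ := exists_mod p ⟨le_rfl, le_N⟩ inf_le_right e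
  have c := h.c4 hz.1 nz
  have f := free_le hz.2 (N := C1(z)) fun t ht => mem_C1.2 (by
    have m := conj_mem_N hz.2 ht
    rw [inv_of_sq (h.sq ht)]
    calc _ = z * (z⁻¹ * t * z * t) := by group
      _ = z * (t * (z⁻¹ * t * z)) := by rw [mem_C.1 (h.el.1 ht) _ (conj_mem_N' hz.2 ht)]
      _ = z * t * z * ((z * z)⁻¹ * t) * z := by group
      _ = _ := by rw [mem_C.1 (h.el.1 ht) _ (inv_mem zz)]; group)
  rw [inf_comm C1(z), h.card] at f
  have s : B ⊔ T ⊓ C1(z) = T := eq_of_card_eq (sup_le h.BT inf_le_left) (by rw [h.card_sup hz.1 nz, h.card]; nlinarith)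
  have n : S ⊓ N(T) ≤ N(T ⊓ C1(z)) := norm_iff.2 fun r hr w hw =>
    ⟨conj_mem_N hr.2 hw.1, mem_C1.2 (by
      have m := k _ (inv_mem hr)
      have e1 := mem_C.1 (h.el.1 hw.1) _ m
      calc _ = r * (w * (r⁻¹ * z * r⁻¹⁻¹ * z⁻¹) * z) * r⁻¹ := by group
        _ = r * ((r⁻¹ * z * r⁻¹⁻¹ * z⁻¹) * (w * z)) * r⁻¹ := by rw [← e1]; group
        _ = _ := by rw [mem_C1.1 hw.2]; group)⟩
  obtain ⟨t, ht, nt, -, l⟩ := exists_mod (W := T ⊓ C1(z)) p ⟨le_inf h.le le_N, inf_le_right⟩ n fun o => by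
    have := card_le o
    rw [h.card] at this; omega
  obtain ⟨b, hb, w, hw, rfl⟩ := (mem_sup_of_norm (cent_norm (h.BT.trans (h.el.1.trans (C_anti inf_le_left))))).1 (s.ge ht)
  have b1 : b ≠ 1 := fun o => nt (by rwa [o, one_mul])
  refine le_trans (le_of_eq ?_) ((orb_le (a := b) (X := S ⊓ N(T)) fun r hr => ?_).trans c)
  · rw [← relIndex_inf_left (A := C1(b)), le_antisymm ((inf_le_inf_right _ inf_le_left).trans (h.cen b hb b1))
      (le_inf (le_inf h.le le_N) (h.el.1.trans (C_le_C1 (h.BT hb))))]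
  · have e1 := mem_C.1 (h.el.1 (h.BT hb)) _ (mul_mem (conj_mem_N hr.2 hw.1) (inv_mem hw.1))
    refine (mul_mem_cancel_right (mul_mem (conj_mem_N (n hr) hw) (inv_mem hw))).1 ?_
    convert l r hr using 1
    calc _ = r * b * r⁻¹ * (b⁻¹ * (r * w * r⁻¹ * w⁻¹ * b)) * b⁻¹ := by group
      _ = _ := by rw [e1]; group

theorem srR : SR4 (S ⊓ N(T)) := fun H hH N h1 h2 => by
  have p : 0 < Nat.card (N ⊓ H : Subgroup G) := Nat.card_pos
  by_cases e : H ≤ T
  · have := card_le e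
    rw [h.card] at this; omega
  obtain ⟨a, ha, na⟩ := SetLike.not_le_iff_exists.1 e
  have f := free_le (X := T ⊓ H) (N := N) (norm_inf (zpowers_le.2 (hH ha).2) (zpowers_le.2 (le_N ha)) (mem_zpowers a))
    fun x hx => h1 (commutator_mem_commutator hx.2 ha)
  have c := (card_le (inf_le_inf_right C1(a) (inf_le_left : T ⊓ H ≤ T))).trans (h.c4 (hH ha).1 na)
  have l := card_le (inf_le_inf_left N (inf_le_right : T ⊓ H ≤ H))
  have := card_le_mul (X := T) hH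
  have := h.idx
  nlinarith

variable (hg : g ∈ S ⊓ N(S ⊓ N(T))) (ng : g ∉ S ⊓ N(T))
include hg ng

theorem cjR : cj g T ≤ S ⊓ N(T) := (cj_mono (le_inf h.le le_N)).trans (cj_eq_self hg.2).le
theorem nle : ¬ cj g T ≤ T := fun e => ng ⟨hg.1, mem_N_of_cj_le e⟩
theorem cW : Nat.card (T ⊓ cj g T : Subgroup G) = 4 := by
  obtain ⟨e, he, ne⟩ := SetLike.not_le_iff_exists.1 (h.nle hg ng)
  have := card_le_mul (X := T) (h.cjR hg ng)
  have := (card_le (inf_le_inf_left T ((h.el.cj g).1.trans (C_le_C1 he)))).trans (h.c4 (h.cjR hg ng he).1 ne)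
  have := h.idx
  rw [card_cj, h.card] at *
  nlinarith
theorem sup : T ⊔ cj g T = S ⊓ N(T) := eq_of_card_eq (sup_le (le_inf h.le le_N) (h.cjR hg ng)) (by
  have n := (h.cjR hg ng).trans inf_le_right
  have e1 := card_mul_relIndex' (A := T) (B := cj g T)
  have e2 := card_mul_relIndex (le_sup_left : T ≤ T ⊔ cj g T)
  have e3 := card_mul_relIndex (le_inf h.le le_N : T ≤ S ⊓ N(T))
  have e4 := card_le (sup_le (le_inf h.le le_N) (h.cjR hg ng))
  have := h.idx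
  rw [sup_comm, relIndex_sup_of_norm n, sup_comm] at e2
  rw [h.cW hg ng, card_cj] at e1
  rw [h.card] at *
  omega)
theorem cent (he : e ∈ S ⊓ N(T)) (ne : e ∉ T) : T ⊓ C1(e) ≤ cj g T :=
  (eq_of_card_eq (le_inf inf_le_left (le_C1_iff.2 ((sup_le (h.el.1.trans (C_anti inf_le_left)) ((h.el.cj g).1.trans
    (C_anti inf_le_right))) ((h.sup hg ng).ge he)))) (le_antisymm (card_le (le_inf inf_le_left (le_C1_iff.2 ((sup_le
      (h.el.1.trans (C_anti inf_le_left)) ((h.el.cj g).1.trans (C_anti inf_le_right))) ((h.sup hg ng).ge he)))))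
        ((h.c4 he.1 ne).trans (h.cW hg ng).ge))).ge.trans inf_le_right
theorem invol (he : e ∈ S ⊓ N(T)) (ee : e * e = 1) : e ∈ T ∨ e ∈ cj g T := by
  obtain ⟨t, ht, s, hs, rfl⟩ := (mem_sup_of_norm' ((h.cjR hg ng).trans inf_le_right)).1 ((h.sup hg ng).ge he)
  by_cases o : s ∈ T
  · exact Or.inl (mul_mem ht o)
  refine Or.inr (mul_mem (h.cent hg ng (h.cjR hg ng hs) o ⟨ht, mem_C1.2 ?_⟩) hs)
  rw [← inv_of_sq ee, mul_inv_rev, inv_of_sq (h.sq ht), inv_of_sq (h.sq' hs)]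
theorem cj_eq (hs : cj s T ≤ S ⊓ N(T)) : cj s T = T ∨ cj s T = cj g T :=
  (le_or_le fun u hu => h.invol hg ng (hs hu) (h.sq' hu)).imp (fun e => eq_of_card_eq e card_cj)
    fun e => eq_of_card_eq e (by rw [card_cj, card_cj])
theorem swap (ha : a ∈ S ⊓ N(S ⊓ N(T))) (na : a ∉ S ⊓ N(T)) : cj a T = cj g T :=
  (h.cj_eq hg ng (h.cjR ha na)).resolve_left fun e => h.nle ha na e.le
theorem memR (ha : a ∈ S) (e : cj a T = cj g T) : g⁻¹ * a ∈ S ⊓ N(T) :=
  mem_inf.2 ⟨mul_mem (inv_mem (mem_inf.1 hg).1) ha, mem_N_of_cj_le (by rw [cj_mul, e, cj_inv_cj])⟩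
theorem idx2 : (S ⊓ N(T)).relIndex (S ⊓ N(S ⊓ N(T))) = 2 := relIndex_eq_two_iff_exists_notMem_and'.2
  ⟨g⁻¹, inv_mem hg, fun e => ng (inv_mem_iff.1 e), fun a ha => (em _).symm.imp (fun n => h.memR hg ng ha.1
    (h.swap hg ng ha n)) id⟩
theorem inW (ha : a ∈ S ⊓ N(S ⊓ N(T))) (na : a ∉ S ⊓ N(T)) (hx : x ∈ T) : a * x * a⁻¹ ∈ cj g T ∧ a⁻¹ * x * a ∈ cj g T :=
  ⟨h.swap hg ng ha na ▸ conj_mem_cj hx, by
    have := conj_mem_cj (g := a⁻¹) hx
    rwa [h.swap hg ng (inv_mem ha) (fun e => na (inv_mem_iff.1 e)), inv_inv] at this⟩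

theorem top : S ≤ N(S ⊓ N(T)) := by
  have := Fact.mk Nat.prime_two
  by_contra n
  obtain ⟨s, hs, ns⟩ := SetLike.exists_of_lt (lt_normalizer_of_pgroup h.two (inf_le_left.lt_of_ne fun e => n (inf_eq_left.1 e)))
  have l : S ⊓ N(T) ≤ S ⊓ N(S ⊓ N(T)) := le_inf inf_le_left le_N
  have u : cj s T ≤ S ⊓ N(S ⊓ N(T)) := (cj_mono ((le_inf h.le le_N).trans l)).trans (cj_eq_self hs.2).le
  by_cases o : cj s T ≤ S ⊓ N(T)
  · rcases h.cj_eq hg ng o with e | e
    · exact ns (l ⟨hs.1, mem_N_of_cj_le e.le⟩)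
    · exact ns ((mul_mem_cancel_left (inv_mem hg)).1 (l (h.memR hg ng hs.1 e)))
  obtain ⟨a, ha, na⟩ := SetLike.not_le_iff_exists.1 o
  have k := card_le_mul (X := S ⊓ N(T)) u
  have c : S ⊓ N(T) ⊓ cj s T ≤ T ⊓ cj g T := fun x hx => by
    have e : a * x * a⁻¹ = x := by rw [mem_C.1 ((h.el.cj s).1 hx.2) a ha, mul_inv_cancel_right]
    have xT : x ∈ T := (h.invol hg ng hx.1 (h.sq' hx.2)).elim id fun m => by
      rwa [← h.swap hg ng (u ha) na, ← e, conj_mem_cj_iff] at m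
    exact ⟨xT, e ▸ (h.inW hg ng (u ha) na xT).1⟩
  have := card_le c
  rw [h.cW hg ng] at this
  rw [h.idx2 hg ng, card_cj, h.card] at k
  omega

theorem srS : SR4 S := fun H hH N h1 h2 => by
  by_cases e : H ≤ S ⊓ N(T)
  · exact h.srR H e N h1 h2
  obtain ⟨a, ha, na⟩ := SetLike.not_le_iff_exists.1 e
  have l : H ≤ S ⊓ N(S ⊓ N(T)) := le_inf hH (hH.trans (h.top hg ng))
  have k1 := card_le_mul (X := S ⊓ N(T)) l
  have k2 := card_le_mul (X := T) (inf_le_left : S ⊓ N(T) ⊓ H ≤ _)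
  have i := h.idx
  have w := h.cW hg ng
  have p : 0 < Nat.card (N ⊓ H : Subgroup G) := Nat.card_pos
  rw [h.idx2 hg ng] at k1
  by_cases o : T ⊓ (S ⊓ N(T) ⊓ H) ≤ cj g T
  · have c := card_le (le_inf inf_le_left o)
    by_cases o' : S ⊓ N(T) ⊓ H ≤ T
    · have := card_le (le_inf o' le_rfl)
      omega
    obtain ⟨x, hx, nx⟩ := SetLike.not_le_iff_exists.1 o'
    have := two_mul_le (bot_le : ⊥ ≤ N ⊓ H) ⟨h2 x hx.2, mul_mem hx.2 hx.2⟩ fun xx => by
      have m := (h.invol hg ng hx.1 xx).resolve_left nx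
      rw [← h.swap hg ng (l ha) na, mem_cj] at m
      have := o (mem_inf.2 ⟨m, mem_inf.2 ⟨le_inf h.le le_N m, mul_mem (mul_mem (inv_mem ha) (mem_inf.1 hx).2) ha⟩⟩)
      rw [← h.swap hg ng (inv_mem (l ha)) (fun e => na (inv_mem_iff.1 e)), mem_cj] at this
      exact nx (by simpa [mul_assoc] using this)
    rw [card_bot] at this
    nlinarith
  obtain ⟨y, hy, ny⟩ := SetLike.not_le_iff_exists.1 o
  have yT := (mem_inf.1 hy).1
  have yH := (mem_inf.1 (mem_inf.1 hy).2).2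
  have m := h.inW hg ng (l ha) na yT
  have n : a * y * a⁻¹ ∉ T := fun e => ny (by simpa [mul_assoc] using (h.inW hg ng (l ha) na e).2)
  have m' : a * y * a⁻¹ ∈ H := conj_mem le_N ha yH
  have f := free_le (X := T ⊓ (S ⊓ N(T) ⊓ H)) (N := N) (norm_inf (zpowers_le.2 (h.cjR hg ng m.1).2)
    (zpowers_le.2 (le_N (mem_inf.2 ⟨h.cjR hg ng m.1, m'⟩))) (mem_zpowers _)) fun x hx => h1 (commutator_mem_commutator hx.2.2 m')
  have c := (card_le (inf_le_inf_right C1(a * y * a⁻¹) (inf_le_left : T ⊓ (S ⊓ N(T) ⊓ H) ≤ T))).trans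
    (h.c4 (h.cjR hg ng m.1).1 n)
  have := two_mul_le (inf_le_inf_left N (inf_le_right.trans inf_le_right : T ⊓ (S ⊓ N(T) ⊓ H) ≤ H))
    (mem_inf.2 ⟨h1 (commutator_mem_commutator ha yH), mul_mem m' (inv_mem yH)⟩) fun e =>
      n ((mul_mem_cancel_right (inv_mem yT)).1 (mem_inf.1 (mem_inf.1 e).2).1)
  nlinarith

omit hg ng in
theorem sr4 : SR4 S := by
  have := Fact.mk Nat.prime_two
  by_cases e : S ⊓ N(T) = S
  · exact e ▸ h.srR
  obtain ⟨g, hg, ng⟩ := SetLike.exists_of_lt (lt_normalizer_of_pgroup h.two (inf_le_left.lt_of_ne e))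
  exact h.srS hg ng

end E16

theorem dq (p : IsPGroup 2 D) (hD : (∃ m : ℕ, 2 ≤ m ∧ Nonempty (D ≃* DihedralGroup m)) ∨ IsQuasiDihedral D) :
    ∃ x ∈ D, (zpowers x).relIndex D = 2 ∧ (D ≤ C1(x) → Nat.card D = 4) := by
  rcases hD with ⟨m, hm, ⟨e⟩⟩ | ⟨n, hn, c, x, y, ox, oy, e⟩
  · obtain ⟨t, x, v, k, a⟩ := H22.exists_dih (hall_self (piGrp_of_isPGroup Nat.prime_two p)) (H22.cd_of_dihedral e)
      fun c => by
        have := DihedralGroup.isCyclic_iff.1 (e.isCyclic.1 c)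
        omega
    refine ⟨x, a.xS, a.relIndex_zp, fun l => ?_⟩
    have i := a.inv
    rw [mem_C1.1 (l a.vS), mul_inv_cancel_right] at i
    have := Nat.le_of_dvd two_pos (orderOf_dvd_of_pow_eq_one (show x ^ 2 = 1 by rw [pow_two]; nth_rw 1 [i]; group))
    have := a.two_or'
    rw [a.card, ← a.ord] at *
    omega
  · obtain ⟨k, rfl⟩ := Nat.exists_eq_add_of_le' hn
    refine ⟨x, x.2, ?_, fun l => ?_⟩
    · have := card_mul_relIndex (zpowers_le.2 x.2)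
      rw [card_zpowers', orderOf_coe, ox, c, pow_succ 2 (k + 3)] at this
      exact Nat.eq_of_mul_eq_mul_left (by positivity) this
    · have i : y * x = x * y := Subtype.ext (mem_C1.1 (l y.2))
      rw [i, mul_inv_cancel_right] at e
      have h1 : 1 ≤ 2 ^ k := Nat.one_le_two_pow
      have := (pow_inj_mod (n := 1) (x := x)).1 ((pow_one x).trans e)
      rw [ox, Nat.mod_eq_of_lt, Nat.mod_eq_of_lt] at this <;>
        simp only [show k + 3 - 1 = k + 2 by omega, pow_add] at * <;> omega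

theorem s1235 (hT : IsPGroup 2 T) (hp : IsInternalDirectProduct D B T)
    (hD : (∃ m : ℕ, 2 ≤ m ∧ Nonempty (D ≃* DihedralGroup m)) ∨ IsQuasiDihedral D) (hB : IsKleinFour B)
    (hb : ∀ b ∈ B, orderOf b = 2 → T ≤ C1(b) ∧ Odd (T.relIndex C1(b))) : SectionalPRankLE 2 4 G := by
  have := Fact.mk Nat.prime_two
  obtain ⟨S, hS, TS⟩ := exists_isSyl_ge hT le_top
  obtain ⟨DT, BT, cm, dj, su⟩ := hp
  have bb : ∀ b ∈ B, b * b = 1 := fun b m => congrArg Subtype.val (IsKleinFour.mul_self (⟨b, m⟩ : B))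
  have cen : ∀ b ∈ B, b ≠ 1 → S ⊓ C1(b) ≤ T := fun b m b1 => by
    obtain ⟨l, o⟩ := hb b m (ord2.2 ⟨bb b m, b1⟩)
    exact ((IsSyl.mk l hT o.not_two_dvd_nat).eq_of_le hS.pgroup.to_inf_left (le_inf TS l) inf_le_right).le
  have BC : B ≤ C(T) := fun b m => (em (b = 1)).elim (fun e => e ▸ one_mem _) fun b1 =>
    le_C1_iff.1 (hb b m (ord2.2 ⟨bb b m, b1⟩)).1
  obtain ⟨x, hx, i, k⟩ := dq (hT.to_le DT) hD
  have cT : Nat.card T = Nat.card D * 4 := by
    rw [← su, Nrm2.card_sup_of_disj (Or.inr (cent_norm (BC.trans (C_anti DT)))) dj, hB.card_four]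
  refine SR4.sec hS ?_
  by_cases e : S ⊓ N(T) ≤ T
  · have : T = S := by_contra fun n => (lt_normalizer_of_pgroup hS.pgroup (TS.lt_of_ne n)).not_ge e
    refine this ▸ sr4_cyc (x := x) (le_of_eq ?_)
    have e1 := card_mul_relIndex (zpowers_le.2 hx)
    have e2 := card_mul_relIndex (zpowers_le.2 (DT hx))
    rw [cT, ← e1, i, mul_assoc] at e2
    exact Nat.eq_of_mul_eq_mul_left Nat.card_pos e2
  obtain ⟨a, ha, na, aa, -⟩ := exists_mod (hS.pgroup.to_le inf_le_left) ⟨le_rfl, le_N⟩ inf_le_right e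
  have d2 : B ⊓ cj a B = ⊥ := eq_bot_iff.2 fun b m => by_contra fun b1 => by
    obtain ⟨c, hc, rfl⟩ := mem_cj'.1 m.2
    have e1 : a * (a * c * a⁻¹) * a⁻¹ = c := (by group : _ = a * a * c * (a * a)⁻¹).trans (cj_fix (BC hc) aa)
    by_cases o : a * c * a⁻¹ * c = 1
    · refine na (cen _ m.1 b1 ⟨ha.1, mem_C1.2 (mul_inv_eq_iff_eq_mul.1 (e1.trans ?_))⟩)
      rw [eq_inv_of_mul_eq_one_left o, inv_of_sq (bb c hc)]
    · refine na (cen _ (mul_mem m.1 hc) o ⟨ha.1, mem_C1.2 (mul_inv_eq_iff_eq_mul.1 ?_)⟩)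
      rw [cj_mul', e1, mem_C.1 (BC hc) _ (BT m.1)]
  have l1 : cj a B ≤ T := (cj_mono BT).trans (cj_eq_self ha.2).le
  have l2 : cj a B ≤ C(T) := by
    rw [← cj_eq_self ha.2, ← cj_C]; exact cj_mono BC
  have l3 : B ⊔ cj a B ≤ T := sup_le BT l1
  have l4 : B ⊔ cj a B ≤ C(T) := sup_le BC l2
  have sq : ∀ t ∈ B ⊔ cj a B, t * t = 1 := fun t ht => by
    obtain ⟨b, hb, c, hc, rfl⟩ := (mem_sup_of_norm (cent_norm (BC.trans (C_anti l1)))).1 ht
    obtain ⟨d, hd, rfl⟩ := mem_cj'.1 hc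
    exact H22.sq_mul (bb b hb) (sq_cj (bb d hd) a) (mem_C.1 (BC hb) _ (l1 hc)).symm
  have c16 : Nat.card (B ⊔ cj a B : Subgroup G) = 16 := by
    rw [Nrm2.card_sup_of_disj (Or.inl (cent_norm (BC.trans (C_anti l1)))) d2, card_cj, hB.card_four]
  have c4 : Nat.card D = 4 := k (by
    have md := Nrm2.modular' (H := B ⊔ cj a B) (Or.inr (cent_norm (BC.trans (C_anti DT)))) le_sup_left
    rw [su, inf_eq_right.2 l3] at md
    rw [md, Nrm2.card_sup_of_disj (Or.inr (cent_norm (BC.trans (C_anti (inf_le_left.trans DT)))))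
      (eq_bot_iff.2 ((inf_le_inf_right _ inf_le_left).trans dj.le)), hB.card_four] at c16
    by_cases o : D ⊓ (B ⊔ cj a B) ≤ zpowers x
    · obtain ⟨w, e⟩ := cyc_iff.1 (cyc_zpowers.of_le o)
      have := Nat.le_of_dvd two_pos (orderOf_dvd_of_pow_eq_one ((pow_two w).trans (sq w (e.le (mem_zpowers w)).2)))
      rw [← e, card_zpowers'] at c16
      omega
    obtain ⟨d, hd, nd⟩ := SetLike.not_le_iff_exists.1 o
    have z : zpowers x ≤ C1(x) := zpowers_le.2 C1_self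
    intro g hg
    by_contra n
    have := (mul_mem_iff_of_index_two i (a := ⟨g, hg⟩) (b := ⟨d, hd.1⟩)).2 (iff_of_false (fun e => n (z e)) nd)
    exact n ((mul_mem_cancel_right (C_le_C1 (DT hx) (l4 hd.2))).1 (z this)))
  have e1 : B ⊔ cj a B = T := eq_of_card_eq l3 (by rw [c16, cT, c4])
  exact E16.sr4 ⟨hS.pgroup, TS, ⟨e1.ge.trans l4, fun t ht => (pow_two t).trans (sq t (e1.ge ht))⟩, by rw [cT, c4], BT,
    hB.card_four, cen⟩

end H4.Gs
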