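import Cfsg.Agent.H4.RI
import Cfsg.Agent.H4.SR
import Cfsg.Agent.H1.Solv2

/-! Core-free groups with Sylow `2`-intersections of rank at most one: one component (`OC.main`). -/

set_option autoImplicit false
set_option linter.unusedSectionVars false
set_option linter.unusedVariables false

namespace H4.Gs
open Subgroup Cfsg H18
open H17 hiding Subn card_cj card_mul_relIndex cj cj_bot cj_cj_inv cj_fit cj_inf cj_inv_cj cj_mono cj_mul cj_one
  cj_sup conj_mem_cj elem_iff elem_zpowers fit_le fit_top le_phi mem_cj mim_cj mim_fit_le phi phi_le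
open H22 (U1 ord2 sq1 ne1 inv_of_sq ord2_conj mem_zp_sq)
open scoped commutatorElement

universe u
variable {G : Type u} [Group G] [Finite G] {A B D E H K L M N P Q R S T U V W X Y Z : Subgroup G}
  {a b c e g l s t u v w x y z : G}

theorem comp_nc (hL : IsComp L H) (hT : IsSyl 2 T L) : ¬ Cyc T :=
  H22.not_cyc_of_not_solv (hall2 hT) (qs_not_solvable hL.qs)

theorem comp_nn (hL : IsComp L H) (hT : IsSyl 2 T L) : ¬ L ≤ N(T) := fun n => qs_not_solvable hL.qs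
  (solv_of_quo n (H1.solv_of_two' ((hall2 hT).quo_compl n)) (pg_pi hT.pgroup).solv)

theorem syl_cj (h : IsSyl 2 S ⊤) (g : G) : IsSyl 2 (cj g S) ⊤ := h.cj_of_mem_normalizer (le_N trivial)

theorem mem_syl (h : IsSyl 2 S ⊤) (hg : g ∈ N(S)) {k : ℕ} (e : g ^ 2 ^ k = 1) : g ∈ S :=
  have := Fact.mk Nat.prime_two
  zpowers_le.1 (h.le_of_le_normalizer (isPGroup_zpowers_of_pow e) le_top (zpowers_le.2 hg))

theorem pow4 (z2 : orderOf z = 2) (h : a * a ∈ zpowers z) : a ^ 2 ^ 2 = 1 := by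
  rw [pow_two 2, pow_mul, pow_two, pow_two]
  rcases (mem_zp_sq (sq1 z2)).1 h with e | e <;> rw [e]
  exacts [one_mul 1, sq1 z2]

theorem quo_top (h : ⊤ ≤ N(K)) : (⊤ : Subgroup G) ⫽ K = ⊤ := top_le_iff.1 (quo_N.ge.trans (mim_mono le_top))

theorem syl_quo (hS : IsSyl 2 S ⊤) (h : ⊤ ≤ N(K)) : IsSyl 2 (S ⫽ K) ⊤ :=
  have := Fact.mk Nat.prime_two
  quo_top h ▸ hS.mim (f := coset K) h

theorem exists_cs (a : Coset K) : ∃ g ∈ N(K), cs K g = a := (mem_quo le_rfl).1 (quo_N.ge (mem_top a))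

structure RC (S : Subgroup G) : Prop where
  syl : IsSyl 2 S ⊤
  core : oQ 2 (⊤ : Subgroup G) = ⊥
  ri : RI (⊤ : Subgroup G)

namespace RC
variable (h : RC S)
include h

theorem sylL (hL : IsComp L ⊤) : IsSyl 2 (S ⊓ L) L := h.syl.inf_subn hL.subn
theorem nc (hL : IsComp L ⊤) : ¬ Cyc (S ⊓ L) := comp_nc hL (h.sylL hL)
theorem norm (hX : X ≤ S) (n : ¬ U1 X) (hg : X ≤ cj g S) : g ∈ N(S) :=
  mem_N_iff_cj.2 (h.ri.eq (syl_cj h.syl g) h.syl hg hX n)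
theorem cen (hL : IsComp L ⊤) : U1 (S ⊓ C(L)) := by
  obtain ⟨g, hg, n⟩ := SetLike.not_le_iff_exists.1 (comp_nn hL (h.sylL hL))
  by_contra c
  exact n (zpowers_le.1 (norm_inf (zpowers_le.2 (h.norm inf_le_left c fun x hx =>
    mem_cj'.2 ⟨x, hx.1, (cj_fix hx.2 hg).symm⟩)) (le_norm (zpowers_le.2 hg))))
theorem oQ_eq (hL : IsComp L ⊤) : oQ 2 L = ⊥ := le_bot_iff.1 (h.core ▸ hL.subn.oQ_le_oQ)
theorem kr_eq (hL : IsComp L ⊤) : kr L = C(L) := le_antisymm (kr_le_C (h.oQ_eq hL)) C_le_kr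
theorem ns (hL : IsComp L ⊤) : NS (L ⫽ C(L)) :=
  have := Fact.mk Nat.prime_two
  h.kr_eq hL ▸ ns_kr ((isPComp_iff_isComp h.core).2 hL).pqs
theorem lift (hL : IsComp L ⊤) (hx : x ∈ N(L)) (e : cs C(L) x ∈ C(L ⫽ C(L))) : x ∈ C(L) := by
  have := mem_kr_of_cs hL.perfect hx
  rw [h.kr_eq hL] at this
  exact this e
theorem fit_eq : fit (⊤ : Subgroup G) = oP 2 ⊤ := have := Fact.mk Nat.prime_two; fit_eq_oP_of_oQ_eq_bot h.core
theorem ZL (hL : IsComp L ⊤) : L ⊓ C(L) ≤ oP 2 ⊤ := h.fit_eq ▸ hL.subn.inf_centralizer_le_fit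
theorem PS : oP 2 ⊤ ≤ S := have := Fact.mk Nat.prime_two; h.syl.oP_le
theorem PC (hL : IsComp L ⊤) : oP 2 ⊤ ≤ C(L) :=
  cent_symm (hL.le_lay.trans (comm_eq_bot_iff.1 (h.fit_eq ▸ commutator_lay_fit ⊤)))
theorem cgf : C(lay (⊤ : Subgroup G)) ⊓ C(oP 2 (⊤ : Subgroup G)) ≤ oP 2 ⊤ := by
  have := centralizer_gfit_le_fit (⊤ : Subgroup G)
  rwa [gfit_eq, h.fit_eq, top_inf_eq, C_sup] at this
theorem exists_comp (u : U1 (oP 2 (⊤ : Subgroup G))) (ns : ¬ Solv (⊤ : Subgroup G)) : ∃ L : Subgroup G, IsComp L ⊤ := by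
  by_contra! c
  have k := h.cgf
  rw [lay_eq_bot_iff.2 c] at k
  refine ns (H1.solv_of_two_primes Nat.prime_two Nat.prime_three (piGrp_of_prime_elt fun r _ p => ?_))
  by_cases o : orderOf r = 2
  · exact Or.inl o
  rcases H16.commute_of_two_group (oP_pgroup 2 ⊤) (u1_q u (oP_pgroup 2 ⊤)) (le_normalizer_oP 2 ⊤ (mem_top r))
    (p.odd_of_ne_two o) with e | ⟨e, -⟩
  · exact absurd ((pg_pi (oP_pgroup 2 ⊤)).elt (k ⟨by simp, e⟩) _ p dvd_rfl) o
  · exact Or.inr ((Nat.prime_dvd_prime_iff_eq Nat.prime_three p).1 e).symm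

end RC

structure OC (S L : Subgroup G) (z : G) : Prop extends RC S where
  comp : IsComp L ⊤
  lay : lay ⊤ = L
  zP : z ∈ oP 2 ⊤
  z2 : orderOf z = 2

namespace OC
variable (h : OC S L z)
include h

theorem nL : ⊤ ≤ N(L) := h.lay ▸ le_normalizer_lay ⊤
theorem nC : ⊤ ≤ N(C(L)) := h.nL.trans N_le_N_C
theorem cP : C(L) ⊓ C(oP 2 (⊤ : Subgroup G)) ≤ oP 2 ⊤ := h.lay ▸ h.cgf
theorem PR : oP 2 ⊤ ≤ S ⊓ C(L) := le_inf h.PS (h.PC h.comp)
theorem u1P : U1 (oP 2 (⊤ : Subgroup G)) := (h.cen h.comp).of_le h.PR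
theorem zS : z ∈ S := h.PS h.zP
theorem zC : z ∈ C(L) := (h.PR h.zP).2
theorem zc (g : G) : g * z * g⁻¹ = z := u1_uniq h.u1P (oP_pgroup 2 ⊤) h.zP
  (conj_mem_N (le_normalizer_oP 2 ⊤ trivial) h.zP) h.z2 (ord2_conj h.z2 g)
theorem zC' (X : Subgroup G) : zpowers z ≤ C(X) :=
  zpowers_le.2 (mem_C.2 fun g _ => mul_inv_eq_iff_eq_mul.1 (h.zc g))
theorem nz : ⊤ ≤ N(zpowers z) := cent_norm (cent_symm (h.zC' ⊤))
theorem nS : C(L) ≤ N(S) := by
  have l : S ⊓ L ⊔ oP 2 ⊤ ≤ S := sup_le inf_le_left h.PS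
  by_cases u : U1 (S ⊓ L ⊔ oP 2 ⊤)
  · have k : oP 2 ⊤ ≤ zpowers z := (le_inf le_sup_right ((h.PC h.comp).trans (C_anti inf_le_right))).trans
      (u1_small u (h.syl.pgroup.to_le l) le_sup_left (h.nc h.comp) (mem_sup_right h.zP) h.z2)
    exact ((le_inf le_rfl (le_top.trans ((cent_symm (h.zC' ⊤)).trans (C_anti k)))).trans h.cP).trans (h.PS.trans le_N)
  · exact fun c hc => h.norm l u (sup_le ((cj_eq_self_of_cent (C_anti inf_le_right hc)).ge.trans (cj_mono inf_le_left))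
      ((cj_eq_self (le_normalizer_oP 2 ⊤ trivial)).ge.trans (cj_mono h.PS)))
theorem Req : S ⊓ C(L) = oP 2 ⊤ := le_antisymm ((le_oP inf_le_right (norm_inf h.nS le_N) h.syl.pgroup.to_inf_left).trans
  (H17.Subn.of_normal le_top h.nC).oP_le_oP) h.PR
theorem uq (hv : v ∈ S) (v2 : orderOf v = 2) (n : v ≠ z) (hT : IsSyl 2 T ⊤) (vT : v ∈ T) : T = S :=
  have := Fact.mk Nat.prime_two
  h.ri.eq' hT h.syl ⟨hT.oP_le h.zP, h.zS⟩ ⟨vT, hv⟩ h.z2 v2 n
theorem nv (hv : v ∈ S) (v2 : orderOf v = 2) (n : v ≠ z) (e : g * v * g⁻¹ * v⁻¹ ∈ S) : g ∈ N(S) :=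
  inv_mem_iff.1 (mem_N_iff_cj.2 (h.uq hv v2 n (syl_cj h.syl _) (mem_cj.2 (by
    simpa using mul_mem e hv))))
theorem uq' (hv : v ∈ S) (v2 : orderOf v = 2) (n : v ≠ z) {T : Subgroup (Coset C(L))} (hT : IsSyl 2 T ⊤)
    (vT : cs C(L) v ∈ T) : T = S ⫽ C(L) := by
  have := Fact.mk Nat.prime_two
  obtain ⟨g, -, e⟩ := (syl_quo h.syl h.nC).exists_cj_eq hT
  obtain ⟨g, hg, rfl⟩ := exists_cs g
  have e' : cj g S ⫽ C(L) = T := (mim_cj hg).trans e
  have k : zpowers v ≤ cj g S ⊔ C(L) := (quo_le_quo_iff (le_top.trans h.nC) (le_top.trans h.nC)).1 (by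
    rwa [mim_zpowers (h.nC trivial), zpowers_le, e'])
  have n' : C(L) ≤ N(cj g S) := by rw [← cj_eq_self hg, ← cj_N]; exact cj_mono h.nS
  rw [← e', h.uq hv v2 n (syl_cj h.syl g) (mem_syl (k := 1) (syl_cj h.syl g) (sup_le le_N n' (k (mem_zpowers v)))
    (by rw [pow_one, pow_two, sq1 v2]))]

theorem not_mc {k : ℕ} (m : H9.MC S (k + 1) x) (hv : v ∈ S) (v2 : orderOf v = 2) (n : v ≠ z) : False := by
  have zu : z = x ^ 2 ^ (k + 1 + 1) := (m.center_cases h.zS fun g _ => mul_inv_eq_iff_eq_mul.1 (h.zc g)).resolve_left (ne1 h.z2)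
  have vx : v ∉ zpowers x := fun e => n ((m.eq_u e v2).trans zu.symm)
  obtain ⟨w, e⟩ : ∃ w, w = x ^ 2 ^ (k + 1) := ⟨_, rfl⟩
  have ww : w * w = z := by rw [e, zu, ← pow_add, pow_succ 2 (k + 1), mul_two]
  have w2 : w ∈ zpowers (x ^ 2) := by rw [e, pow_succ' 2 k, pow_mul]; exact npow_mem_zpowers _ _
  have wx := m.sq_le w2
  have w4 : orderOf w = 4 := by rw [e]; exact H9.orderOf_pow_two_pow (m := 2) (by rw [m.ordx]; ring_nf)
  have in4 : ∀ b ∈ zpowers x, b * b ∈ zpowers z → b ∈ zpowers w := fun b hb e =>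
    H9.mem_zpowers_of_orderOf_dvd hb wx (w4 ▸ orderOf_dvd_of_pow_eq_one (pow4 h.z2 e))
  obtain ⟨g, hg, gx⟩ := SetLike.not_le_iff_exists.1 fun e : S ⊓ L ≤ zpowers x => h.nc h.comp (cyc_zpowers.of_le e)
  have wL : w ∈ L := m.sq_le_of_normal (h.nL trivial) hg.1 gx hg.2 w2
  have nw : S ≤ N(zpowers w) := cyc_zpowers.norm_sub (zpowers_le.2 wx)
    (fun s hs => mem_N_of_finite fun a ha => m.conj_mem hs ha)
  have n0 : ∀ a : G, a ∈ N(zpowers z) := fun a => h.nz trivial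
  have key : ∀ l : G, l * w * l⁻¹ ∈ N(zpowers w) := fun l => by
    obtain ⟨u, e⟩ : ∃ u, u = l * w * l⁻¹ := ⟨_, rfl⟩
    have uu : u * u = z := by rw [e, ← cj_mul', ww, h.zc]
    have u4 : u ^ 2 ^ 2 = 1 := pow4 h.z2 (uu ▸ mem_zpowers _)
    rw [← e]
    rcases H9.isConj_or_exists_commute (x := cs (zpowers z) u) (y := cs (zpowers z) v)
      (by rw [← mfun_mul (n0 _) (n0 _), uu]; exact cs_eq_one (mem_zpowers z))
      (by rw [← mfun_mul (n0 _) (n0 _), sq1 v2, mfun_one]) with c | ⟨a, a2, -, c1, c2⟩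
    · obtain ⟨c, e⟩ := isConj_iff.1 c
      obtain ⟨c, -, rfl⟩ := exists_cs c
      rw [← mfun_conj (n0 _) (n0 _), cs_eq_iff (n0 _) (n0 _)] at e
      have f := sq1 v2
      have i : c * u * c⁻¹ * (c * u * c⁻¹) = z := by rw [← cj_mul', uu, h.zc]
      rcases (mem_zp_sq (sq1 h.z2)).1 e with e | e <;> rw [inv_mul_eq_iff_eq_mul] at e <;> rw [e] at f
      · exact absurd (i.symm.trans (by simpa using f)) (ne1 h.z2)
      · rw [mul_assoc, ← mul_assoc z, ← mul_inv_eq_iff_eq_mul.1 (h.zc _), mul_assoc _ z, sq1 h.z2, mul_one, i] at f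
        exact absurd f (ne1 h.z2)
    obtain ⟨a, -, rfl⟩ := exists_cs a
    have cm : ∀ {a b : G}, Commute (cs (zpowers z) a) (cs (zpowers z) b) → a * b * a⁻¹ * b⁻¹ ∈ zpowers z := fun {a b} c =>
      (cs_eq_one_iff (n0 _)).1 ((mfun_comm (n0 a) (n0 b)).trans (commutatorElement_eq_one_iff_commute.2 c))
    have zS := zpowers_le.2 h.zS
    have aa : a * a ∈ zpowers z := (cs_eq_one_iff (n0 _)).1 ((mfun_mul (n0 _) (n0 _)).trans (sq1 a2))
    have az : a ∉ zpowers z := fun e => ne1 a2 (cs_eq_one e)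
    have aS : a ∈ S := mem_syl h.syl (h.nv hv v2 n (zS (cm c2))) (pow4 h.z2 aa)
    rcases (mem_zp_sq (sq1 h.z2)).1 aa with f | f
    · exact nw (mem_syl h.syl (h.nv aS (ord2.2 ⟨f, fun e => az (e ▸ one_mem _)⟩) (fun e => az (e ▸ mem_zpowers _))
        (zS (cm c1.symm))) u4)
    have ax : a ∈ zpowers x := by
      by_contra ax
      have i := m.inverts_sq hv vx ((zpowers_le.2 w2) (in4 _ (m.mul_mem_out aS hv ax vx) (by
        have := mul_mem (cm c2) (mem_zpowers z)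
        rwa [mul_assoc, mul_inv_eq_iff_eq_mul.1 (h.zc v⁻¹), ← f, inv_of_sq (sq1 v2),
          show a * v * a⁻¹ * (a * a * v) = a * v * (a * v) by group, f] at this)))
      rw [mul_inv_rev, inv_of_sq (sq1 v2), mul_assoc, mul_assoc, sq1 v2, mul_one, mul_right_inj,
        eq_inv_iff_mul_eq_one, f] at i
      exact ne1 h.z2 i
    have aw : zpowers a = zpowers w := eq_of_card_eq (zpowers_le.2 (in4 a ax aa)) (by
      rw [card_zpowers', card_zpowers', w4]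
      exact orderOf_eq_prime_pow (p := 2) (n := 1) (by rw [pow_one, pow_two, f]; exact ne1 h.z2) (pow4 h.z2 aa))
    rw [← aw]
    refine mem_N_of_finite fun b hb => ?_
    obtain ⟨i, rfl⟩ := mem_zpowers_iff.1 hb
    rw [← conj_zpow]
    exact zpow_mem ((mul_mem_cancel_right (inv_mem (mem_zpowers a))).1
      (zpowers_le.2 (f ▸ mul_mem (mem_zpowers a) (mem_zpowers a)) (cm c1.symm))) i
  rcases qs_commutator_eq_or h.comp.qs (X := zpowers w) (le_top.trans h.nL) with e | e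
  · have l : L ≤ N(zpowers w) := e.ge.trans (commutator_le.2 fun l _ b hb => by
      obtain ⟨i, rfl⟩ := mem_zpowers_iff.1 hb
      rw [commutatorElement_def, ← conj_zpow]
      exact mul_mem (zpow_mem (key l) i) (inv_mem (le_N hb)))
    exact h.nc h.comp (cyc_zpowers.of_le (inf_le_right.trans (e.ge.trans (comm_le_right l))))
  · exact gx (m.mem_zpowers_of_commute hg.1 wx (ww ▸ ne1 h.z2)
      (mem_C.1 (comm_eq_bot_iff.1 e hg.2) w (mem_zpowers w)).symm)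

theorem exv (nu : ¬ U1 S) (hQ : Q ≤ S) (u : U1 Q) (nc : ¬ Cyc Q) :
    ∃ v ∈ S, orderOf v = 2 ∧ v ∉ C(L) ∧ ∀ s ∈ S, s * v * s⁻¹ * v⁻¹ ∈ C(L) := by
  rcases H9.cyclic_or_mc_or_klein h.syl.pgroup with c | ⟨k, x, m⟩ | ⟨W, l, n, c⟩
  · exact absurd (Cyc.of_le c hQ) nc
  · exfalso
    cases k with
    | zero =>
      obtain ⟨n, a, b, d⟩ := (u1_q u (h.syl.pgroup.to_le hQ)).resolve_left nc
      have := card_le hQ
      have e := d.card_eq
      have : 1 ≤ 2 ^ n := Nat.one_le_two_pow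
      rw [m.card_eq] at *
      exact nu (eq_of_card_eq hQ (by rw [m.card_eq]; rw [pow_succ] at e; omega) ▸ u)
    | succ k =>
      refine nu fun s hs t ht s2 t2 _ => ?_
      rw [by_contra fun n : ¬ s = z => h.not_mc m hs s2 n, by_contra fun n : ¬ t = z => h.not_mc m ht t2 n]
  have sq : ∀ b ∈ W, b * b = 1 := fun b m => congrArg Subtype.val (IsKleinFour.mul_self (⟨b, m⟩ : W))
  obtain ⟨v, hv, nv, -, k⟩ := exists_mod (W := C(L)) h.syl.pgroup ⟨l, n⟩ (le_top.trans h.nC) fun e => by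
    have := card_le fun w hw => u1_mem (h.cen h.comp) h.syl.pgroup.to_inf_left ⟨h.zS, h.zC⟩ h.z2 ⟨l hw, e hw⟩ (sq w hw)
    rw [c.card_four, card_zpowers', h.z2] at this
    omega
  exact ⟨v, l hv, ord2.2 ⟨sq v hv, fun e => nv (e ▸ one_mem _)⟩, nv, k⟩

theorem e8 {U K : Subgroup (Coset C(L))} (g : GT (L ⫽ C(L)) ((S ⊓ L) ⫽ C(L)) U K) (nc : ¬ Cyc (oP 2 (⊤ : Subgroup G))) :
    2 < prank 2 S := by
  have n0 : ∀ a : G, a ∈ N(C(L)) := fun a => h.nC trivial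
  have ZL : L ⊓ C(L) ≤ zpowers z := (le_inf (h.ZL h.comp) (inf_le_left.trans (cent_symm (h.PC h.comp)))).trans
    (u1_small h.u1P (oP_pgroup 2 ⊤) le_rfl nc h.zP h.z2)
  obtain ⟨a, ha, a1, -⟩ := g.exists_ne (one_mem U)
  obtain ⟨b, hb, b1, ab⟩ := g.exists_ne ha
  obtain ⟨a, ma, rfl⟩ := (mem_quo (le_top.trans h.nC)).1 (g.le ha)
  obtain ⟨b, mb, rfl⟩ := (mem_quo (le_top.trans h.nC)).1 (g.le hb)
  have sq : ∀ c ∈ L, cs C(L) c ∈ U → cs C(L) c ≠ 1 → c * c = a * a := fun c hc m c1 => by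
    obtain ⟨k, hk, e⟩ := g.trans _ ha a1 _ m c1
    obtain ⟨k, kL, rfl⟩ := (mem_quo (le_top.trans h.nC)).1 (g.leK hk).1
    rw [← mfun_conj (n0 _) (n0 _), cs_eq_iff (n0 _) (n0 _)] at e
    have z1 := ZL (mem_inf.2 ⟨mul_mem (inv_mem (conj_mem le_N kL (mem_inf.1 ma).2)) hc, e⟩)
    have z2 := ZL ⟨mul_mem ma.2 ma.2, (cs_eq_one_iff (n0 _)).1 ((mfun_mul (n0 _) (n0 _)).trans (g.memU.1 ha).2)⟩
    have i : k * a * k⁻¹ * (k * a * k⁻¹) = a * a := by rw [← cj_mul', cj_fix (h.zC' ⊤ z2) trivial]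
    rcases (mem_zp_sq (sq1 h.z2)).1 z1 with e | e <;> rw [inv_mul_eq_iff_eq_mul] at e <;> rw [e]
    · rw [mul_one, i]
    · rw [mul_assoc, ← mul_assoc z, ← mul_inv_eq_iff_eq_mul.1 (h.zc _), mul_assoc _ z, sq1 h.z2, mul_one, i]
  have bb := sq b mb.2 hb b1
  have ab2 := sq (a * b) (mul_mem ma.2 mb.2) (by rw [mfun_mul (n0 _) (n0 _)]; exact mul_mem ha hb) (by
    rw [mfun_mul (n0 _) (n0 _)]; exact fun e => ab ((eq_inv_of_mul_eq_one_right e).trans (inv_of_sq (g.memU.1 ha).2)))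
  have fin : ∀ c ∈ S, ∀ d ∈ S, cs C(L) c = cs C(L) a → cs C(L) d = cs C(L) b → c * c = 1 → d * d = 1 → c * d = d * c →
      2 < prank 2 S := fun c hc d hd e f cc dd cd =>
    (((pelem_one Nat.prime_two (zpowers_le.2 h.zS) (card_zpowers'.trans h.z2)).sup_elt Nat.prime_two hc ((pow_two c).trans cc)
      (cent_symm (h.zC' ⊤) trivial) fun m => a1 (e ▸ cs_eq_one (zpowers_le.2 h.zC m))).sup_elt Nat.prime_two hd
        ((pow_two d).trans dd) (C_sup.ge ⟨cent_symm (h.zC' ⊤) trivial, C_zpowers.ge (mem_C1.2 cd.symm)⟩) fun m => by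
          have := mfun_mem_mim (f := coset C(L)) m
          rw [mim_sup (le_top.trans h.nC) (le_top.trans h.nC), quo_eq_bot (zpowers_le.2 h.zC), bot_sup_eq,
            mim_zpowers (n0 _), e, f, mem_zp_sq (g.memU.1 ha).2] at this
          exact this.elim b1 ab).le_prank Nat.prime_two
  rcases (mem_zp_sq (sq1 h.z2)).1 (ZL ⟨mul_mem ma.2 ma.2, (cs_eq_one_iff (n0 _)).1 ((mfun_mul (n0 _) (n0 _)).trans
    (g.memU.1 ha).2)⟩) with e | e <;> rw [e] at bb ab2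
  · exact fin a ma.1 b mb.1 rfl rfl e bb (by rw [← inv_of_sq ab2, mul_inv_rev, inv_of_sq e, inv_of_sq bb])
  obtain ⟨n, x, y, d⟩ := (u1_q h.u1P (oP_pgroup 2 ⊤)).resolve_left nc
  have zu := d.eq_u h.zP h.z2
  have xP := pow_mem d.xmem (2 ^ n)
  have xx : x ^ 2 ^ n * x ^ 2 ^ n = z := by rw [zu, ← pow_add, pow_succ, mul_two]
  have yy := d.ysq.trans zu.symm
  have i := d.inverts d.ymem d.ynot (npow_mem_zpowers x (2 ^ n))
  generalize x ^ 2 ^ n = w at *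
  have wa := mem_C.1 (h.PC h.comp xP) a ma.2
  have wb := mem_C.1 (h.PC h.comp xP) b mb.2
  have ya := mem_C.1 (h.PC h.comp d.ymem) a ma.2
  have yb := mem_C.1 (h.PC h.comp d.ymem) b mb.2
  have k : ∀ c, ∀ p ∈ oP 2 (⊤ : Subgroup G), cs C(L) (c * p) = cs C(L) c := fun c p hp => by
    rw [mfun_mul (n0 _) (n0 _), cs_eq_one (h.PC h.comp hp), mul_one]
  refine fin (a * w) (mul_mem ma.1 (h.PS xP)) (b * y) (mul_mem mb.1 (h.PS d.ymem)) (k _ _ xP) (k _ _ d.ymem) ?_ ?_ ?_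
  · rw [mul_assoc, ← mul_assoc w, ← wa, mul_assoc, ← mul_assoc, e, xx, sq1 h.z2]
  · rw [mul_assoc, ← mul_assoc y, ← yb, mul_assoc, ← mul_assoc, bb, yy, sq1 h.z2]
  · have iv : ∀ {c : G}, c * c = z → c⁻¹ = c * z := fun e =>
      inv_eq_of_mul_eq_one_right (by rw [← mul_assoc, e, sq1 h.z2])
    have zc : ∀ c, c * z = z * c := fun c => mul_inv_eq_iff_eq_mul.1 (h.zc c)
    have e1 : b * a = a * b * z := by
      rw [mul_assoc, ← iv bb, eq_mul_inv_iff_mul_eq]; exact mul_left_cancel (a := a) (by rw [e, ← ab2]; group)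
    have e2 : y * w = w * y * z := by rw [mul_inv_eq_iff_eq_mul.1 i, iv xx, mul_assoc, ← zc, mul_assoc]
    calc _ = a * b * (w * y) := by rw [mul_assoc, ← mul_assoc w, ← wb]; group
      _ = a * b * z * (w * y * z) := by rw [zc (w * y), mul_assoc _ z, ← mul_assoc z, sq1 h.z2, one_mul]
      _ = _ := by rw [← e1, ← e2, mul_assoc, mul_assoc, ← mul_assoc a, ya]; group

theorem main [G0.{u}] (hR : IsSyl 2 R ⊤) (n : S ≠ R) (nc : ¬ Cyc (S ⊓ R)) (nu : ¬ U1 S) :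
    ¬ Cyc (oP 2 (⊤ : Subgroup G)) ∧ S ≤ oP 2 ⊤ ⊔ L ∧ HasSE (L ⫽ C(L)) ∧ 2 < prank 2 S := by
  have := Fact.mk Nat.prime_two
  have n0 : ∀ {A : Subgroup G}, A ≤ N(C(L)) := @fun _ => le_top.trans h.nC
  obtain ⟨v, hv, v2, vC, k⟩ := h.exv nu inf_le_left (u1_of (h.ri _ _ h.syl hR n)) nc
  have vz : v ≠ z := fun e => vC (e ▸ h.zC)
  obtain ⟨l, se, ti, U, K, g⟩ := uq_main (h.ns h.comp) (syl_quo h.syl h.nC) (quo_top h.nC ▸ mim_norm h.nL) (fun c hc => by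
    obtain ⟨c, -, rfl⟩ := exists_cs c
    exact cs_eq_one (h.lift h.comp (h.nL trivial) hc)) (v := cs C(L) v) ⟨mfun_mem_mim hv, mem_C.2 fun s hs => by
      obtain ⟨s, ms, rfl⟩ := (mem_quo n0).1 hs
      exact commutatorElement_eq_one_iff_mul_comm.1 ((mfun_comm (h.nC trivial) (h.nC trivial)).symm.trans
        (cs_eq_one (k s ms)))⟩ (ord2.2 ⟨by rw [← mfun_mul (h.nC trivial) (h.nC trivial), sq1 v2, mfun_one],
          fun e => vC ((cs_eq_one_iff (h.nC trivial)).1 e)⟩) fun T hT m => h.uq' hv v2 vz hT m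
  have e : S ⫽ C(L) = (S ⊓ L) ⫽ C(L) :=
    ((h.sylL h.comp).mim n0).eq_of_le g.syl.pgroup (mim_mono inf_le_left) l
  have nc' : ¬ Cyc (oP 2 (⊤ : Subgroup G)) := fun c => nc (c.of_le (h.Req ▸ le_inf inf_le_left ((quo_eq_bot_iff n0).1
    (le_bot_iff.1 (mim_inf_le.trans (ti _ (syl_quo hR h.nC) fun e => n (hR.eq_of_le h.syl.pgroup
      (h.syl.le_of_le_normalizer hR.pgroup le_top (((quo_le_quo_iff n0 n0).1 e.le).trans (sup_le le_N h.nS))) le_top)).le)))))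
  refine ⟨nc', fun s hs => ?_, se, h.e8 (e ▸ g) nc'⟩
  obtain ⟨t, ht, c, hc, rfl⟩ := (mem_sup_of_norm n0).1 ((quo_le_quo_iff n0 n0).1 e.le hs)
  exact mul_mem (mem_sup_right ht.2) (mem_sup_left (h.Req.le (mem_inf.2 ⟨(mul_mem_cancel_left (mem_inf.1 ht).1).1 hs, hc⟩)))

end OC

end H4.Gs
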