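import Cfsg.Agent.H4.RI2

/-! Groups with Sylow `2`-intersections of rank at most one: two components (`TC`), `s3310`. -/

set_option autoImplicit false
set_option linter.unusedSectionVars false
set_option linter.unusedVariables false

namespace H4.Gs
open Subgroup Cfsg H18
open H17 hiding Subn card_cj card_mul_relIndex cj cj_bot cj_cj_inv cj_fit cj_inf cj_inv_cj cj_mono cj_mul cj_one
  cj_sup conj_mem_cj elem_iff elem_zpowers fit_le fit_top le_phi mem_cj mim_cj mim_fit_le phi phi_le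
open H22 (U1 ord2 sq1 ne1 inv_of_sq ord2_conj mem_zp_sq)
open scoped commutatorElement MatrixGroups

universe u
variable {G : Type u} [Group G] [Finite G] {A B D E H K L M N P Q R S T U V W X Y Z : Subgroup G}
  {a b c e g l s t u v w x y z : G}

structure TC (S L K : Subgroup G) (z : G) : Prop extends RC S where
  cL : IsComp L ⊤
  cK : IsComp K ⊤
  ne : L ≠ K
  z2 : orderOf z = 2
  zS : z ∈ S
  zL : z ∈ L ⊓ C(L)
  zK : z ∈ K ⊓ C(K)

theorem comp_cent (hL : IsComp L H) (hK : IsComp K H) (n : L ≠ K) : L ≤ C(K) :=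
  comm_eq_bot_iff.1 ((hL.eq_or_commutator hK).resolve_left n)

theorem RC.exz (h : RC S) (hL : IsComp L ⊤) (hK : IsComp K ⊤) (n : L ≠ K) : ∃ z ∈ S ⊓ L, orderOf z = 2 ∧ z ∈ C(L) := by
  have s := h.sylL hL
  obtain ⟨z, hz, z2⟩ := exists_inv2 s.pgroup fun e => h.nc hL (e ▸ cyc_bot)
  have := zstar_syl s hz fun g _ m => u1_uniq ((h.cen hK).of_le (inf_le_inf_left S (comp_cent hL hK n))) s.pgroup hz m z2
    (ord2_conj z2 g)
  rw [h.oQ_eq hL] at this
  exact ⟨z, hz, z2, zpowers_le.1 (comm_eq_bot_iff.1 (le_bot_iff.1 this))⟩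

theorem RC.tc (h : RC S) (hL : IsComp L ⊤) (hK : IsComp K ⊤) (n : L ≠ K) : ∃ z, TC S L K z := by
  obtain ⟨z, hz, z2, zC⟩ := h.exz hL hK n
  obtain ⟨y, hy, y2, yC⟩ := h.exz hK hL n.symm
  obtain rfl := u1_uniq (h.cen hL) h.syl.pgroup.to_inf_left ⟨hz.1, zC⟩ ⟨hy.1, comp_cent hK hL n.symm hy.2⟩ z2 y2
  exact ⟨y, h, hL, hK, n, y2, hz.1, ⟨hz.2, zC⟩, hy.2, yC⟩

namespace TC
variable (h : TC S L K z)
include h

theorem symm : TC S K L z := ⟨h.toRC, h.cK, h.cL, h.ne.symm, h.z2, h.zS, h.zK, h.zL⟩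
theorem LK : L ≤ C(K) := comp_cent h.cL h.cK h.ne
theorem small : S ⊓ C(L) ⊓ C(S ⊓ K) ≤ zpowers z := u1_small (h.cen h.cL) h.syl.pgroup.to_inf_left
  (inf_le_inf_left S h.symm.LK) (h.nc h.cK) ⟨h.zS, h.zL.2⟩ h.z2
theorem comp (hM : IsComp M ⊤) : M = L ∨ M = K := by
  by_contra! c
  exact h.nc hM (cyc_zpowers.of_le ((le_inf (inf_le_inf_left S (comp_cent hM h.cL c.1))
    (inf_le_right.trans ((comp_cent hM h.cK c.2).trans (C_anti inf_le_right)))).trans h.small))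
theorem lay : lay ⊤ = L ⊔ K := le_antisymm (lay_le_iff.2 fun M hM => (h.comp hM).elim (fun e => e ▸ le_sup_left)
  fun e => e ▸ le_sup_right) (sup_le h.cL.le_lay h.cK.le_lay)
theorem Pz : oP 2 ⊤ ≤ zpowers z :=
  (le_inf (le_inf h.PS (h.PC h.cL)) ((h.PC h.cK).trans (C_anti inf_le_right))).trans h.small
theorem CC : C(L) ⊓ C(K) ≤ zpowers z := (le_inf (by rw [h.lay, C_sup]) (inf_le_left.trans
  ((C_anti (zpowers_le.2 h.zL.1)).trans (C_anti h.Pz)))).trans (h.cgf.trans h.Pz)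
theorem ZL' : L ⊓ C(L) = zpowers z := le_antisymm ((h.ZL h.cL).trans h.Pz) (zpowers_le.2 h.zL)
theorem ti (hg : g ∈ L) : g ∈ N(S) ∨ S ⊓ L ⊓ cj g (S ⊓ L) ≤ zpowers z := by
  have e := cj_fix h.zL.2 hg
  by_cases u : U1 (S ⊓ cj g S)
  · refine Or.inr ((le_inf (inf_le_inf inf_le_left (cj_mono inf_le_left)) ((inf_le_left.trans inf_le_right).trans
      (h.LK.trans (C_anti inf_le_right)))).trans (u1_small (T := S ⊓ K) u h.syl.pgroup.to_inf_left (le_inf inf_le_left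
        ((cj_eq_self_of_cent (C_anti inf_le_right (h.LK hg))).ge.trans (cj_mono inf_le_left))) (h.nc h.cK)
          ⟨h.zS, e ▸ conj_mem_cj h.zS⟩ h.z2))
  · exact Or.inl (h.norm inf_le_left u inf_le_right)
theorem nC (hX : X ≤ N(L)) : X ≤ N(C(L)) := hX.trans N_le_N_C
theorem ti' (x : Coset C(L)) (hx : x ∈ L ⫽ C(L)) :
    (S ⊓ L) ⫽ C(L) ⊓ cj x ((S ⊓ L) ⫽ C(L)) = ⊥ ∨ x ∈ (L ⊓ N(S)) ⫽ C(L) := by
  have n := h.nC le_N
  obtain ⟨g, hg, rfl⟩ := (mem_quo n).1 hx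
  refine (h.ti hg).symm.imp (fun k => eq_bot_iff.2 fun a ha => ?_) fun k => mfun_mem_mim ⟨hg, k⟩
  rw [← mim_cj (n hg)] at ha
  have l := cj_le_of_mem (inf_le_right : S ⊓ L ≤ L) hg
  obtain ⟨a, ma, rfl⟩ := (mem_quo (inf_le_right.trans n)).1 ha.1
  obtain ⟨b, mb, e⟩ := (mem_quo (l.trans n)).1 ha.2
  rw [← e]
  refine cs_eq_one (zpowers_le.2 h.zL.2 (k ⟨?_, mb⟩))
  have := h.ZL'.le (mem_inf.2 ⟨mul_mem (inv_mem (mem_inf.1 ma).2) (l mb), (cs_eq_iff (n ma.2) (n (l mb))).1 e.symm⟩)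
  exact (mul_mem_cancel_left (inv_mem ma)).1 (zpowers_le.2 (mem_inf.2 ⟨h.zS, h.zL.1⟩) this)
theorem nT : (L ⊓ N(S)) ⫽ C(L) ≤ N((S ⊓ L) ⫽ C(L)) := mim_norm (norm_inf inf_le_right (le_norm inf_le_left))
theorem bt [G0.{u}] : ∃ U J, BT (L ⫽ C(L)) ((S ⊓ L) ⫽ C(L)) U J :=
  have := Fact.mk Nat.prime_two
  ti_bt (h.ns h.cL) ((h.sylL h.cL).mim (h.nC le_N)) fun x hx => (h.ti' x hx).imp_right fun k => h.nT k

theorem sl [G0.{u}] : ∃ e : L ≃* SL(2, ZMod 5), (e.symm (-1) : G) = z := by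
  obtain ⟨U, J, b⟩ := h.bt
  have n := h.nC le_N
  have p := (h.sylL h.cL).pgroup
  obtain ⟨k, x, y, d⟩ := (u1_q ((h.symm.cen h.cK).of_le (inf_le_inf_left S h.LK)) p).resolve_left (h.nc h.cL)
  have c8 : Nat.card (S ⊓ L : Subgroup G) = 8 := by
    obtain ⟨g, hg, ng⟩ := SetLike.not_le_iff_exists.1 fun e : U ≤ zpowers (cs C(L) x) => b.1.not_u1 (u1_of
      ((cyc_zpowers.of_le e).prank_le Nat.prime_two))
    obtain ⟨g, mg, rfl⟩ := (mem_quo (inf_le_right.trans n)).1 (b.1.le hg)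
    have i := d.inverts mg (fun e => ng (by
      rw [← mim_zpowers (n d.xmem.2)]; exact mfun_mem_mim e)) (mem_zpowers x)
    have c := (cs_eq_one_iff (mul_mem (conj_mem le_N (n mg.2) (n d.xmem.2)) (inv_mem (n d.xmem.2)))).1
      ((mfun_comm (n mg.2) (n d.xmem.2)).trans (commutatorElement_eq_one_iff_mul_comm.2
        (mem_C.1 (b.1.cent hg) _ (mfun_mem_mim d.xmem)).symm))
    rw [i] at c
    have xL := inv_mem (mem_inf.1 d.xmem).2
    have := Nat.le_of_dvd (by norm_num) (orderOf_dvd_of_pow_eq_one (pow4 h.z2 (h.ZL'.le ⟨mul_mem xL xL, c⟩)))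
    have o : 1 ≤ 2 ^ k := Nat.one_le_two_pow
    rw [orderOf_inv, d.ordx, pow_succ] at this
    rw [d.card_eq, pow_succ]; omega
  have c4 : Nat.card ((S ⊓ L) ⫽ C(L)) = 4 := by
    have := card_mim_mul (f := coset C(L)) (inf_le_right.trans n : S ⊓ L ≤ _)
    rw [mker_coset, inf_assoc, h.ZL', inf_eq_right.2 (zpowers_le.2 h.zS), card_zpowers', h.z2, c8] at this
    omega
  obtain ⟨e⟩ := b.a5 c4
  obtain ⟨f⟩ := Cfsg.Agent.S0253.result (F := ZMod 5) (ZMod.card 5)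
  let π : L →* PSL(2, ZMod 5) := (e.trans f.symm).toMonoidHom.comp ((mimHom (coset C(L)) L).comp
    (MulEquiv.subgroupCongr (inf_eq_left.2 n).symm).toMonoidHom)
  have k : π.ker = (zpowers z).subgroupOf L := by
    ext a
    rw [← h.ZL', MonoidHom.mem_ker, mem_subgroupOf, mem_inf, and_iff_right a.2, ← cs_eq_one_iff (n a.2),
      mfun_of_mem (n a.2)]
    exact (map_eq_one_iff _ (e.trans f.symm).injective).trans Subtype.ext_iff
  have : Group.IsPerfect L := ⟨by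
    rw [← map_subtype_inj, map_subtype_commutator, h.cL.perfect, ← MonoidHom.range_eq_map, range_subtype]⟩
  obtain ⟨i⟩ := H22.equiv_SL2_of_cover (F := ZMod 5) (by rw [ZMod.card]; decide) π ((e.trans f.symm).surjective.comp
    (mimHom_surjective.comp (MulEquiv.subgroupCongr _).surjective)) (k ▸ fun a ha => mem_center_iff.2 fun b =>
      Subtype.ext (mem_C.1 (zpowers_le.2 h.zL.2 ha) _ b.2)) (by
        rw [k, Nat.card_congr (subgroupOfEquivOfLe (zpowers_le.2 h.zL.1)).toEquiv, card_zpowers', h.z2])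
  refine ⟨i, ((mem_zp_sq (sq1 h.z2)).1 (h.ZL'.le ⟨(i.symm (-1)).2, mem_C.2 fun a ha => ?_⟩)).resolve_left fun e => ?_⟩
  · exact congrArg Subtype.val (show ⟨a, ha⟩ * i.symm (-1) = i.symm (-1) * ⟨a, ha⟩ from i.injective (by simp))
  · exact H10.SL2_neg_one_ne_one (K := ZMod 5) (by decide) (i.symm.injective (by rw [map_one]; exact Subtype.ext e))

theorem inn [G0.{u}] (hs : s ∈ S) (hn : s ∈ N(L)) : ∃ t ∈ S ⊓ L, t⁻¹ * s ∈ C(L) := by
  obtain ⟨U, J, b⟩ := h.bt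
  have n := h.nC (inf_le_right : S ⊓ N(L) ≤ _)
  have := b.1.le_sup (S := (S ⊓ N(L)) ⫽ C(L)) (.inl b) (isPGroup_mim h.syl.pgroup.to_inf_left) (mim_norm inf_le_right)
    (mim_norm (norm_inf (le_norm inf_le_left) inf_le_right)) (fun x hx => mim_norm (norm_inf inf_le_right
      (inf_le_left.trans (le_norm le_N))) ((h.ti' x hx.1).resolve_left fun e => b.1.ne_bot (le_bot_iff.1
        (b.1.le.trans ((le_inf le_rfl (cj_eq_self hx.2).ge).trans e.le))))) (mfun_mem_mim ⟨hs, hn⟩)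
  obtain ⟨t, ht, c, hc, e⟩ := (mem_sup_of_norm' (cent_norm (C_anti b.1.syl.le))).1 this
  obtain ⟨t, mt, rfl⟩ := (mem_quo (inf_le_right.trans (h.nC le_N))).1 ht
  have tn := le_N (mem_inf.1 mt).2
  refine ⟨t, mt, h.lift h.cL (mul_mem (inv_mem tn) hn) ?_⟩
  rwa [mfun_mul (N_le_N_C (inv_mem tn)) (N_le_N_C hn), e, mfun_inv (N_le_N_C tn), inv_mul_cancel_left]

theorem le_sup [G0.{u}] : S ⊓ N(L) ≤ L ⊔ K := fun s hs => by
  obtain ⟨t, ht, c⟩ := h.inn hs.1 hs.2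
  have m := mul_mem (inv_mem (mem_inf.1 ht).1) (mem_inf.1 hs).1
  obtain ⟨r, hr, d⟩ := h.symm.inn m (mem_N_iff_cj.2 ((h.comp (h.cK.cj_of_mem_normalizer (le_N trivial))).resolve_left
    fun e => h.ne ((cj_eq_iff.1 e).trans (cj_eq_self_of_cent (inv_mem c))).symm))
  have := zpowers_le.2 h.zL.1 (h.CC (mem_inf.2 ⟨mul_mem (inv_mem (h.symm.LK hr.2)) c, d⟩))
  simpa using mul_mem (mem_sup_left ht.2) (mul_mem (mem_sup_right hr.2) (mem_sup_left this))

theorem idx [G0.{u}] : Odd (L ⊔ K).index ∨ ∃ k, Odd k ∧ (L ⊔ K).index = 2 * k := by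
  by_cases o : N(L) = ⊤
  · exact Or.inl (Nat.not_even_iff_odd.1 fun e => h.syl.not_dvd_relIndex ((le_inf le_rfl (le_top.trans o.ge)).trans h.le_sup)
      (relIndex_top_right (L ⊔ K) ▸ e.two_dvd))
  obtain ⟨a, -, na⟩ := SetLike.exists_of_lt (lt_top_iff_ne_top.2 o)
  have sw : ∀ b, b ∉ N(L) → cj b L = K := fun b n => (h.comp (h.cL.cj_of_mem_normalizer (le_N trivial))).resolve_left
    fun e => n (mem_N_iff_cj.2 e)
  have i : N(L).index = 2 := index_eq_two_iff'.2 ⟨a⁻¹, fun b => by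
    by_cases m : b ∈ N(L)
    · exact Or.inr ⟨m, fun e => na (inv_mem_iff.1 ((mul_mem_cancel_right m).1 e))⟩
    · exact Or.inl ⟨mem_N_iff_cj.2 (by rw [cj_mul, sw b m, ← sw a na, cj_inv_cj]), m⟩⟩
  have := normal_of_index_eq_two i
  refine Or.inr ⟨(L ⊔ K).relIndex N(L), Nat.not_even_iff_odd.1 fun e => (h.syl.inf_normal le_top
    le_normalizer_of_normal).not_dvd_relIndex h.le_sup e.two_dvd, ?_⟩
  rw [← relIndex_mul_index (sup_le le_N (cent_norm h.symm.LK)), i, mul_comm]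

theorem iso [G0.{u}] : ∃ (Z : Subgroup (SL(2, ZMod 5) × SL(2, ZMod 5))) (_ : Z.Normal), Z = zpowers (-1, -1) ∧
    Nonempty (↥(L ⊔ K) ≃* (SL(2, ZMod 5) × SL(2, ZMod 5)) ⧸ Z) := by
  obtain ⟨e, he⟩ := h.sl
  obtain ⟨f, hf⟩ := h.symm.sl
  let φ := (L.subtype.comp e.symm.toMonoidHom).noncommCoprod (K.subtype.comp f.symm.toMonoidHom)
    fun a b => (mem_C.1 (h.LK (e.symm a).2) _ (f.symm b).2).symm
  have ap : ∀ a b, φ (a, b) = e.symm a * f.symm b := fun _ _ => rfl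
  have r : φ.range = L ⊔ K := by
    refine (MonoidHom.noncommCoprod_range _ _ _).trans ?_
    rw [MonoidHom.range_comp, MonoidHom.range_comp, MonoidHom.range_eq_top.2 e.symm.surjective,
      MonoidHom.range_eq_top.2 f.symm.surjective, ← MonoidHom.range_eq_map, ← MonoidHom.range_eq_map, range_subtype,
      range_subtype]
  refine ⟨φ.ker, inferInstance, le_antisymm ?_ (zpowers_le.2 ?_),
    ⟨(MulEquiv.subgroupCongr r.symm).trans (QuotientGroup.quotientKerEquivRange φ).symm⟩⟩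
  · rintro ⟨a, b⟩ m
    rw [MonoidHom.mem_ker, ap, mul_eq_one_iff_eq_inv] at m
    rcases (mem_zp_sq (sq1 h.z2)).1 (h.ZL'.le (mem_inf.2 ⟨(e.symm a).2, m ▸ inv_mem (h.symm.LK (f.symm b).2)⟩)) with k | k <;>
      rw [k] at m
    · rw [show a = 1 from e.symm.injective (by rw [map_one]; exact Subtype.ext k),
        show b = 1 from f.symm.injective (by rw [map_one]; exact Subtype.ext (inv_eq_one.1 m.symm))]
      exact one_mem _
    · rw [show a = -1 from e.symm.injective (Subtype.ext (k.trans he.symm)), show b = -1 from f.symm.injective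
        (Subtype.ext ((inv_eq_iff_eq_inv.1 m.symm).trans ((inv_of_sq (sq1 h.z2)).trans hf.symm)))]
      exact mem_zpowers _
  · rw [MonoidHom.mem_ker, ap, he, hf, sq1 h.z2]

end TC

theorem RC.cases [G0.{u}] (h : RC S) (ns : ¬ Solv (⊤ : Subgroup G)) (hR : IsSyl 2 R ⊤) (n : S ≠ R) (nc : ¬ Cyc (S ⊓ R)) :
    (∃ L z, OC S L z) ∨ ∃ L K z, TC S L K z := by
  have := Fact.mk Nat.prime_two
  obtain ⟨L, hL⟩ := h.exists_comp ((u1_of (h.ri _ _ h.syl hR n)).of_le (le_inf h.PS hR.oP_le)) ns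
  by_cases o : ∃ K, IsComp K ⊤ ∧ L ≠ K
  · obtain ⟨K, hK, k⟩ := o
    exact Or.inr ⟨L, K, h.tc hL hK k⟩
  have e : lay ⊤ = L := le_antisymm (lay_le_iff.2 fun K hK => (by_contra fun k : ¬ L = K => o ⟨K, hK, k⟩).ge) hL.le_lay
  by_cases p : oP 2 (⊤ : Subgroup G) = ⊥
  · have c := h.cgf
    rw [e, p] at c
    exact absurd (h.ri.simple (ns_of_comp hL (h.fit_eq.trans p)) (e ▸ le_normalizer_lay ⊤)
      ((le_inf le_rfl fun x _ => by simp).trans c) h.syl hR n) nc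
  obtain ⟨z, hz, z2⟩ := exists_inv2 (oP_pgroup 2 ⊤) p
  exact Or.inl ⟨L, z, h, hL, e, hz, z2⟩

section map
variable {Y : Type*} [Group Y] [Finite Y] {π : G →* Y}

theorem mim_top : mim (π.comp (⊤ : Subgroup G).subtype) A = A.map π := by
  simp only [H18.mim, ← map_map, subgroupOf_map_subtype, inf_top_eq]

theorem mker_top : mker (π.comp (⊤ : Subgroup G).subtype) = π.ker := by
  ext x; simp [mem_mker, mfun_of_mem (mem_top x)]

theorem prank_map (hk : Od π.ker) : prank 2 (A.map π) = prank 2 A := by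
  rw [← mim_top]
  exact prank_mim Nat.prime_two le_top (mker_top (π := π) ▸ (piNat_compl_iff Nat.prime_two).2 (od_le inf_le_right hk))

theorem equiv_map (hk : Od π.ker) (p : IsPGroup 2 A) : Nonempty (A ≃* A.map π) :=
  ⟨(mimEquiv _ A le_top (mker_top (π := π) ▸ pg_inf_od p hk)).trans (MulEquiv.subgroupCongr mim_top)⟩

theorem syl_lift (sj : Function.Surjective π) {S : Subgroup Y} (hS : IsSyl 2 S ⊤) (p : IsPGroup 2 P) (l : P ≤ S.comap π) :
    ∃ T, IsSyl 2 T ⊤ ∧ P ≤ T ∧ T.map π = S := by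
  have := Fact.mk Nat.prime_two
  obtain ⟨T, h1, h2⟩ := exists_isSyl_ge p l
  have := h1.map π
  rw [map_comap_eq_self_of_surjective sj] at this
  refine ⟨T, h1.trans le_top ?_, h2, (this.eq_of_le hS.pgroup this.le le_rfl).symm⟩
  rw [relIndex_top_right, index_comap_of_surjective _ sj, ← relIndex_top_right]
  exact hS.not_dvd

theorem RI.map (h : RI (⊤ : Subgroup G)) (sj : Function.Surjective π) (hk : Od π.ker) : RI (⊤ : Subgroup Y) :=
  fun S T hS hT n => by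
  obtain ⟨P, hP⟩ := have := Fact.mk Nat.prime_two; exists_isSyl 2 ((S ⊓ T).comap π)
  obtain ⟨S', s1, s2, rfl⟩ := syl_lift sj hS hP.pgroup (hP.le.trans (comap_mono inf_le_left))
  obtain ⟨T', t1, t2, rfl⟩ := syl_lift sj hT hP.pgroup (hP.le.trans (comap_mono inf_le_right))
  rw [← map_comap_eq_self_of_surjective sj (_ ⊓ _), prank_map hk, ← prank_sylow Nat.prime_two (hall2 hP)]
  exact (prank_mono Nat.prime_two (le_inf s2 t2)).trans (h S' T' s1 t1 fun e => n (e ▸ rfl))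

theorem comap_equiv {Z : Type*} [Group Z] (sj : Function.Surjective π) {M : Subgroup Y} (ψ : M →* Z)
    (hψ : Function.Surjective ψ) [(W.subgroupOf (M.comap π)).Normal] (hW : ∀ g (hg : π g ∈ M), g ∈ W ↔ ψ ⟨π g, hg⟩ = 1) :
    Nonempty (M.comap π ⧸ W.subgroupOf (M.comap π) ≃* Z) :=
  ⟨(QuotientGroup.quotientMulEquivOfEq (N := (ψ.comp (π.subgroupComap M)).ker) (by ext g; exact hW g g.2)).trans
    (QuotientGroup.quotientKerEquivOfSurjective _ (hψ.comp (π.subgroupComap_surjective_of_surjective M sj)))⟩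

end map

theorem RI.cent (h : RI (⊤ : Subgroup G)) (hS : IsSyl 2 S ⊤) (r : 2 < prank 2 S) (hO : Od N) (n : ⊤ ≤ N(N)) : N ≤ C(S) := by
  obtain ⟨A, hA⟩ := exists_pelem_of_lt Nat.prime_two r
  refine coprime_elem_gen_cent Nat.prime_two hA (le_top.trans n) ((piNat_compl_iff Nat.prime_two).2 hO) fun B hB x hx => ?_
  have k : x ∈ N(S) := mem_N_iff_cj.2 (by_contra fun e => by
    have := (PElem.le_prank ⟨le_inf ((cj_eq_self_of_cent hx.2).ge.trans (cj_mono (hB.le.trans hA.le))) (hB.le.trans hA.le),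
      hB.elem, hB.card⟩ Nat.prime_two).trans (h _ _ (syl_cj hS x) hS e)
    omega)
  exact zpowers_le.1 (comm_eq_bot_iff.1 (le_bot_iff.1 ((pg_inf_od hS.pgroup hO).le.trans' (le_inf
    (comm_le_right (zpowers_le.2 k)) ((H18.comm_mono (zpowers_le.2 hx.1) le_rfl).trans (comm_le_left (le_top.trans n)))))))

theorem s3310 [G0.{u}] (hns : ¬ Group.IsSolvable G)
    (hI : ∀ S T : Sylow 2 G, S ≠ T → Cfsg.PRankLE 2 1 ↥((S : Subgroup G) ⊓ (T : Subgroup G)))
    (hnC : ∃ S T : Sylow 2 (G ⧸ Cfsg.oddCore G), S ≠ T ∧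
      ¬ IsCyclic ↥((S : Subgroup (G ⧸ Cfsg.oddCore G)) ⊓ (T : Subgroup (G ⧸ Cfsg.oddCore G))))
    (hnQ : ∀ S : Sylow 2 G, ∀ n : ℕ, IsEmpty (↥(S : Subgroup G) ≃* QuaternionGroup (2 ^ (n + 1)))) :
    (∃ (G₁ : Subgroup G) (_ : G₁.Normal) (_ : ((Cfsg.pCore 2 G ⊔ Cfsg.oddCore G).subgroupOf G₁).Normal),
      Odd G₁.index ∧ Cfsg.pCore 2 G ⊔ Cfsg.oddCore G ≤ G₁ ∧
      (∃ n : ℕ, Nonempty (↥(Cfsg.pCore 2 G) ≃* QuaternionGroup (2 ^ (n + 1)))) ∧
      H19.IsBender (↥G₁ ⧸ (Cfsg.pCore 2 G ⊔ Cfsg.oddCore G).subgroupOf G₁)) ∨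
    (∃ (G₁ : Subgroup G) (_ : G₁.Normal) (_ : ((Cfsg.oddCore G).subgroupOf G₁).Normal),
      (Odd G₁.index ∨ ∃ k : ℕ, Odd k ∧ G₁.index = 2 * k) ∧ Cfsg.oddCore G ≤ G₁ ∧
      ∃ (Z : Subgroup (SL(2, ZMod 5) × SL(2, ZMod 5))) (_ : Z.Normal), Z = Subgroup.zpowers (-1, -1) ∧
        Nonempty (↥G₁ ⧸ (Cfsg.oddCore G).subgroupOf G₁ ≃* (SL(2, ZMod 5) × SL(2, ZMod 5)) ⧸ Z)) := by
  have := Fact.mk Nat.prime_two
  obtain ⟨S, R, n, nc⟩ := hnC
  let π := QuotientGroup.mk' (oddCore G)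
  have sj : Function.Surjective π := QuotientGroup.mk'_surjective _
  have kk : π.ker = oddCore G := QuotientGroup.ker_mk' _
  have hO : Od (oddCore G) := od_le (oQ_top (G := G) 2).ge od_oQ
  have hk : Od π.ker := od_le kk.le hO
  have ri : RI (⊤ : Subgroup G) := fun S T hS hT n => by
    obtain ⟨S, rfl⟩ := hS.exists_sylow_top
    obtain ⟨T, rfl⟩ := hT.exists_sylow_top
    exact (prank_le_iff Nat.prime_two).2 (hI S T fun e => n (e ▸ rfl))
  have h : RC (S : Subgroup (G ⧸ oddCore G)) := ⟨isSyl_sylow S, oQ_top_quotient G 2, ri.map sj hk⟩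
  have n' : (S : Subgroup (G ⧸ oddCore G)) ≠ R := fun e => n (Sylow.ext e)
  obtain ⟨T, hT, -, eT⟩ := syl_lift sj h.syl IsPGroup.of_bot bot_le
  rcases h.cases (fun s => hns (Group.isSolvable_of_ker_le_range (oddCore G).subtype π (by simp [kk])
    (hG' := od_solv hO) (hG'' := solv_top_iff.1 s))) (isSyl_sylow R) n' nc with ⟨L, z, o⟩ | ⟨L, K, z, t⟩
  · obtain ⟨c, l, ⟨M, se⟩, r⟩ := o.main (isSyl_sylow R) n' nc fun u => by
      obtain ⟨k, x, y, d⟩ := (u1_q u h.syl.pgroup).resolve_left fun c => nc (c.of_le inf_le_left)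
      obtain ⟨e⟩ := d.nonempty_equiv
      obtain ⟨f⟩ := equiv_map hk hT.pgroup
      obtain ⟨T, rfl⟩ := hT.exists_sylow_top
      exact (hnQ T k).false (f.trans ((MulEquiv.subgroupCongr eT).trans e))
    have nP : (oP 2 (⊤ : Subgroup (G ⧸ oddCore G))).Normal := normalizer_eq_top_iff.1 (top_le_iff.1 (le_normalizer_oP 2 ⊤))
    have nL : L.Normal := normalizer_eq_top_iff.1 (top_le_iff.1 o.nL)
    have cO := ri.cent hT (by rwa [← prank_map hk, eT]) hO le_normalizer_of_normal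
    have s := hT.inf_normal (K := (oP 2 ⊤).comap π) le_top le_normalizer_of_normal
    have m := s.map π
    rw [map_comap_eq_self_of_surjective sj] at m
    replace m := m.eq_of_le (oP_pgroup 2 ⊤) m.le le_rfl
    have e1 : T ⊓ (oP 2 ⊤).comap π ⊔ oddCore G = (oP 2 ⊤).comap π :=
      (congrArg _ kk.symm).trans (by rw [← comap_map_eq, ← m])
    have e2 : pCore 2 G = T ⊓ (oP 2 ⊤).comap π := by
      rw [← oP_top]
      refine le_antisymm (le_inf hT.oP_le (map_le_iff_le_comap.1 ((map_oP_le π ⊤).trans (by rw [map_top_of_surjective π sj]))))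
        ((le_oP s.le (e1.ge.trans (sup_le le_N (cent_norm (cO.trans (C_anti inf_le_left))))) s.pgroup).trans
          (H17.Subn.of_normal le_top le_normalizer_of_normal).oP_le_oP)
    have e3 := e2 ▸ e1
    have := (o.ns o.comp).simple
    have n0 : ∀ {A : Subgroup (G ⧸ oddCore G)}, A ≤ N(C(L)) := @fun _ => le_top.trans o.nC
    obtain ⟨f⟩ := comap_equiv (W := pCore 2 G ⊔ oddCore G) sj (M := oP 2 ⊤ ⊔ L) (Z := L ⫽ C(L))
      ((MulEquiv.subgroupCongr (by rw [mim_sup n0 n0, quo_eq_bot (o.PC o.comp), bot_sup_eq])).toMonoidHom.comp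
        ((mimHom (coset C(L)) (oP 2 ⊤ ⊔ L)).comp (MulEquiv.subgroupCongr (inf_eq_left.2 n0).symm).toMonoidHom))
      ((MulEquiv.surjective _).comp (mimHom_surjective.comp (MulEquiv.surjective _))) fun g hg => by
        rw [e3, mem_comap, Subtype.ext_iff]
        refine Iff.trans ?_ ((cs_eq_one_iff (n0 hg)).symm.trans (by rw [mfun_of_mem (n0 hg)]; rfl))
        refine ⟨fun e => o.PC o.comp e, fun e => ?_⟩
        obtain ⟨a, ha, b, hb, k⟩ := (mem_sup_of_norm (le_top.trans o.nL)).1 hg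
        rw [k] at e ⊢
        exact mul_mem ha (o.ZL o.comp ⟨hb, (mul_mem_cancel_left (o.PC o.comp ha)).1 e⟩)
    obtain ⟨k, x, y, d⟩ := (u1_q o.u1P (oP_pgroup 2 ⊤)).resolve_left c
    obtain ⟨e⟩ := d.nonempty_equiv
    obtain ⟨i⟩ := equiv_map hk s.pgroup
    refine Or.inl ⟨(oP 2 ⊤ ⊔ L).comap π, inferInstance, inferInstance, ?_, e3.le.trans (comap_mono le_sup_left),
      ⟨k, ⟨(MulEquiv.subgroupCongr e2).trans (i.trans ((MulEquiv.subgroupCongr m.symm).trans e))⟩⟩,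
      (H9.isBender_of_se se).of_equiv f⟩
    rw [index_comap_of_surjective _ sj, ← relIndex_top_right]
    exact Nat.not_even_iff_odd.1 fun e => h.syl.not_dvd_relIndex l e.two_dvd
  · obtain ⟨Z, nZ, e, ⟨f⟩⟩ := t.iso
    have : (L ⊔ K).Normal := normalizer_eq_top_iff.1 (top_le_iff.1 (t.lay ▸ le_normalizer_lay ⊤))
    refine Or.inr ⟨(L ⊔ K).comap π, inferInstance, inferInstance, index_comap_of_surjective _ sj ▸ t.idx,
      kk.ge.trans (ker_le_comap _ _), Z, nZ, e, comap_equiv sj f.toMonoidHom f.surjective fun g hg => ?_⟩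
    exact (QuotientGroup.eq_one_iff g).symm.trans
      ((Subtype.ext_iff.trans (by rfl)).symm.trans (map_eq_one_iff _ f.injective).symm)

end H4.Gs
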